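import Mathlib
import Cfsg.Agent.Gl23.Local
import Cfsg.Agent.Char.Det
import Cfsg.Agent.Char.Galois
import Cfsg.Agent.Block.Height

/-!
Character values on involutions and divisibility from characters of defect zero.
-/

set_option autoImplicit false

namespace Cfsg.Agent.Gl23

open Cfsg.Agent.Char Cfsg.Agent.Char.Det Subgroup

variable {G : Type*} [Group G] [Finite G]

theorem inv_val (hG : commutator G = ⊤) {χ : G → ℂ} (hχ : IsCharacter G χ) {n : ℕ} (hn : χ 1 = n) {t : G}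
    (ht : t ^ 2 = 1) : ∃ k : ℕ, 2 * k ≤ n ∧ χ t = ((n - 4 * k : ℤ) : ℂ) := by
  have key : ∀ ψ : zpowers t → ℂ, IsCharacter _ ψ → ∃ a m : ℕ, ψ 1 = a + m ∧ ψ ⟨t, mem_zpowers t⟩ = a - m ∧
      detChar ψ ⟨t, mem_zpowers t⟩ = (-1) ^ m := fun ψ hψ => by
    refine isChar_induction (P := fun ψ => ∃ a m : ℕ, ψ 1 = a + m ∧ ψ ⟨t, mem_zpowers t⟩ = a - m ∧
      detChar ψ ⟨t, mem_zpowers t⟩ = (-1) ^ m) hψ (fun ψ hψ => ?_) ⟨0, 0, by simp, by simp, by simp [detChar_zero]⟩ ?_
    · obtain ⟨lam, rfl⟩ := isIrr_linear_of_comm hψ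
      have h1 : (lam ⟨t, mem_zpowers t⟩ : ℂ) ^ 2 = 1 := by
        rw [← Units.val_pow_eq_pow_val, ← map_pow, show (⟨t, mem_zpowers t⟩ : zpowers t) ^ 2 = 1 from Subtype.ext ht,
          map_one, Units.val_one]
      rw [detChar_linear]
      rcases sq_eq_one_iff.1 h1 with h | h
      · exact ⟨1, 0, by simp, by simp [h], by simp [h]⟩
      · exact ⟨0, 1, by simp, by simp [h], by simp [h]⟩
    · rintro φ ψ hφ hψ ⟨a, m, h1, h2, h3⟩ ⟨b, l, h4, h5, h6⟩
      refine ⟨a + b, m + l, ?_, ?_, ?_⟩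
      · rw [Pi.add_apply, h1, h4]; push_cast; ring
      · rw [Pi.add_apply, h2, h5]; push_cast; ring
      · rw [detChar_add hφ hψ, Pi.mul_apply, h3, h6, pow_add]
  obtain ⟨a, m, h1, h2, h3⟩ := key _ (isChar_res (zpowers t) hχ)
  obtain ⟨lam, hl⟩ := exists_detHom hχ
  rw [detChar_res _ hχ, hl] at h3
  have h4 : lam t = 1 := Abelianization.commutator_subset_ker lam (hG ▸ mem_top t)
  simp only [h4, Units.val_one] at h3
  obtain ⟨k, rfl⟩ := (neg_one_pow_eq_one_iff_even (by norm_num)).1 h3.symm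
  have h5 : n = a + (k + k) := by exact_mod_cast hn.symm.trans h1
  refine ⟨k, by omega, h2.trans ?_⟩
  rw [h5]; push_cast; ring

theorem exists_sum_eq {χ : G → ℂ} [Fintype G] (hχ : IsCharacter G χ) : ∃ n : ℕ, ∑ g, χ g = Nat.card G * n := by
  obtain ⟨n, hn⟩ := classInner_isChar_nat hχ isChar_one
  rw [classInner_one_right, inv_mul_eq_iff_eq_mul₀ card_ne_zero] at hn
  exact ⟨n, hn⟩

theorem dvd_of_vanish {χ : G → ℂ} (hχ : IsCharacter G χ) {p : ℕ} (hp : p.Prime) (hp2 : p ≠ 2)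
    (hv : ∀ g, p ∣ orderOf g → χ g = 0) {z : G} (hz : orderOf z = 2) {R : Subgroup G} (hR : IsPGroup p R)
    (hc : ∀ r ∈ R, z * r = r * z) {m : ℕ} (hm : χ 1 + χ z = m) : 2 * Nat.card R ∣ m := by
  classical
  have := Fact.mk hp
  have := Fintype.ofFinite (zpowers z)
  have := Fintype.ofFinite R
  have hc' : ∀ (a : zpowers z) (r : R), Commute (a : G) (r : G) := by
    rintro ⟨_, k, rfl⟩ r
    exact (show Commute z r from hc r r.2).zpow_left k
  obtain ⟨n, hn⟩ := exists_sum_eq (isChar_comp ((zpowers z).subtype.noncommCoprod R.subtype hc') hχ)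
  have h1 : ∀ a : zpowers z, ∑ r : R, χ (a * r) = χ a := fun a => by
    rw [Finset.sum_eq_single 1 (fun r _ hr => hv _ ?_) (by simp), coe_one, mul_one]
    obtain ⟨k, hk⟩ := IsPGroup.iff_orderOf.1 hR r
    have h2 : orderOf (a : G) ∣ 2 := hz ▸ orderOf_dvd_of_mem_zpowers a.2
    rw [(hc' a r).orderOf_mul_eq_mul_orderOf_of_coprime (by
      rw [orderOf_coe r, hk]
      exact (((Nat.coprime_primes Nat.prime_two hp).2 hp2.symm).pow_right k).of_dvd_left h2), orderOf_coe r, hk]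
    exact Dvd.dvd.mul_left (dvd_pow_self p fun h => hr (by rwa [h, pow_zero, orderOf_eq_one_iff] at hk)) _
  have hz1 : z ≠ 1 := fun h => by simp [h] at hz
  have h2 : (Finset.univ : Finset (zpowers z)) = {1, ⟨z, mem_zpowers z⟩} := by
    refine (Finset.eq_of_subset_of_card_le (Finset.subset_univ _) ?_).symm
    rw [Finset.card_univ, ← Nat.card_eq_fintype_card, Nat.card_zpowers, hz,
      Finset.card_pair fun h => hz1 (congrArg Subtype.val h).symm]
  rw [Fintype.sum_prod_type] at hn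
  change ∑ a : zpowers z, ∑ r : R, χ (a * r) = _ at hn
  simp only [h1] at hn
  rw [h2, Finset.sum_pair fun h => hz1 (congrArg Subtype.val h).symm, Nat.card_prod, Nat.card_zpowers, hz] at hn
  exact ⟨n, by exact_mod_cast hm.symm.trans hn⟩

theorem vanish_of_dvd {χ : IrrCharacter G} {p k n : ℕ} (hp : p.Prime) (hG : ¬ p ^ (k + 1) ∣ Nat.card G)
    (hn : (χ : G → ℂ) 1 = n) (hk : p ^ k ∣ n) (g : G) (hg : p ∣ orderOf g) : (χ : G → ℂ) g = 0 := by
  obtain ⟨M, hM⟩ := Block.exists_isPModular hp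
  refine Block.char_eq_zero_of_defect_zero hM ?_ hg
  have h1 : (Nat.card G).factorization p ≤ k := by
    by_contra h
    exact hG ((hp.pow_dvd_iff_le_factorization Nat.card_pos.ne').2 (by omega))
  refine h1.trans ((hp.pow_dvd_iff_le_factorization (Block.irr_degree_ne_zero χ)).1 ?_)
  rwa [Block.charDegree_of_eq hn]

theorem pRankLE_of_char {χ : G → ℂ} (hχ : IsCharacter G χ) (h1 : χ 1 = 10) (h2 : ∀ t, orderOf t = 2 → χ t = -2) :
    PRankLE 2 2 G := fun A _ hA => by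
  classical
  have := Fintype.ofFinite A
  obtain ⟨n, hn⟩ := exists_sum_eq (isChar_res A hχ)
  rw [← Finset.add_sum_erase _ _ (Finset.mem_univ 1), Finset.sum_congr rfl (g := fun _ => -2)
    (fun (a : A) ha => h2 _ (orderOf_eq_prime (hA a a.2) fun h => Finset.ne_of_mem_erase ha (Subtype.ext h))),
    Finset.sum_const, Finset.card_erase_of_mem (Finset.mem_univ _), Finset.card_univ,
    ← Nat.card_eq_fintype_card, coe_one, h1, nsmul_eq_mul, Nat.cast_pred Nat.card_pos] at hn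
  have h3 : Nat.card A * (n + 2) = 12 := by
    have : ((Nat.card A * (n + 2) : ℕ) : ℂ) = (12 : ℕ) := by push_cast; linear_combination -hn
    exact_mod_cast this
  obtain ⟨k, hk⟩ := (show IsPGroup 2 A from fun a => ⟨1, Subtype.ext (by simpa using hA a a.2)⟩).exists_card_eq
  rw [hk] at h3 ⊢
  by_contra h4
  have h5 : 2 ^ 3 ∣ 12 := (pow_dvd_pow 2 (by
    by_contra h5
    exact h4 (Nat.pow_le_pow_right (by norm_num) (by omega)))).trans (Dvd.intro _ h3)
  norm_num at h5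

end Cfsg.Agent.Gl23
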