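import Mathlib
import Cfsg.Agent.Gl23.Ord1
import Cfsg.Agent.Block.SCGrp

/-!
A group of order `7920` with a self-centralising element of order `11` is simple.
-/

set_option autoImplicit false

namespace Cfsg.Agent.Gl23

open Cfsg.Agent.Core Cfsg.Agent.Block Subgroup

variable {G : Type*} [Group G] [Finite G]

theorem card_mod_of_SX {p : ℕ} {x : G} (h : SX p x) {K : Subgroup G} (hK : x ∈ normalizer (K : Set G))
    (hd : ¬ p ∣ Nat.card K) : Nat.card K % p = 1 := by
  have h2 := (h.sub hK).card_mod (S := K.subgroupOf _)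
    (by rwa [Nat.card_congr (subgroupOfEquivOfLe le_normalizer).toEquiv])
  rwa [Nat.card_congr (subgroupOfEquivOfLe le_normalizer).toEquiv] at h2

theorem bot_of_SX (hG : Nat.card G ∣ 7920) {x : G} (h : SX 11 x) {K : Subgroup G}
    (hK : x ∈ normalizer (K : Set G)) (hd : ¬ 11 ∣ Nat.card K) : K = ⊥ := by
  by_contra hne
  obtain ⟨r, hr, hrK⟩ := Nat.exists_prime_and_dvd (card_eq_one.not.2 hne)
  have := Fact.mk hr
  obtain ⟨R, hR, hA⟩ := exists_invariant_isSylowOf (zpowers x) K (zpowers_le.2 hK)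
    (by rw [h.card]; exact (Nat.Prime.coprime_iff_not_dvd h.prime).2 hd) (Or.inl inferInstance) r
  have h1 : ¬ 11 ∣ Nat.card R := fun e => hd (e.trans (card_dvd_of_le hR.le))
  have h2 := card_mod_of_SX h (hA (mem_zpowers x)) h1
  have h3 : Nat.card R ∣ 11 * 720 := (card_subgroup_dvd_card R).trans hG
  have h4 := ((Nat.Prime.coprime_iff_not_dvd h.prime).2 h1).symm.dvd_of_dvd_mul_left h3
  have h5 := card_eq_one.not.2 (hR.ne_bot hrK)
  obtain ⟨k, hk⟩ := IsPGroup.iff_card.1 hR.isPGroup
  have h6 : ∀ q : ℕ, q.Prime → q ∣ Nat.card R → q = r := fun q hq e =>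
    (Nat.prime_dvd_prime_iff_eq hq hr).1 (hq.dvd_of_dvd_pow (hk ▸ e))
  obtain ⟨h7, h8 | h8⟩ := (by decide +kernel : ∀ n ≤ 720, n ∣ 720 → n % 11 = 1 → n ≠ 1 → 3 ∣ n ∧ (2 ∣ n ∨ 5 ∣ n))
    _ (Nat.le_of_dvd (by norm_num) h4) h4 h2 h5
  · have := (h6 _ Nat.prime_three h7).trans (h6 _ Nat.prime_two h8).symm
    omega
  · have := (h6 _ Nat.prime_three h7).trans (h6 _ Nat.prime_five h8).symm
    omega

theorem simple_of_SX (hG : Nat.card G = 7920) {x : G} (h : SX 11 x) : IsSimpleGroup G := by
  have : Nontrivial G := ⟨x, 1, h.ne_one⟩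
  have := Fintype.ofFinite G
  refine ⟨fun S hS => ?_⟩
  by_cases hd : 11 ∣ Nat.card S
  swap
  · exact Or.inl (bot_of_SX hG.dvd h (normalizer_eq_top S ▸ mem_top x) hd)
  refine Or.inr (index_eq_one.1 ?_)
  have h1 := h.index_dvd hd
  have h2 := h.card_G
  have h3 := relIndex_dvd h.prime h.ord
  have h4 := (sylow_data (m := 720) h.prime hG (by norm_num) h.ord).2.1
  rw [h.cent'] at h3
  have h5 : (zpowers x).relIndex (normalizer (zpowers x : Set G)) = 5 := by
    have := Nat.le_of_dvd (by norm_num) h3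
    generalize (zpowers x).relIndex (normalizer (zpowers x : Set G)) = e at *
    interval_cases e <;> omega
  refine ((Nat.dvd_prime Nat.prime_five).1 (h5 ▸ h1)).resolve_right fun h6 => ?_
  have h7 : Nat.card S = 1584 := by have := S.card_mul_index; rw [h6] at this; omega
  have h' := h.sub (h.ordP.le_of_dvd hd (mem_zpowers x))
  generalize (⟨x, _⟩ : S) = y at h'
  have g2 := h'.card_G
  have g3 := relIndex_dvd h'.prime h'.ord
  have g4 := (sylow_data (m := 144) h'.prime h7 (by norm_num) h'.ord).2.1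
  rw [h'.cent'] at g3
  have g5 : (zpowers y).relIndex (normalizer (zpowers y : Set S)) = 1 := by
    have := Nat.le_of_dvd (by norm_num) g3
    generalize (zpowers y).relIndex (normalizer (zpowers y : Set S)) = e at *
    interval_cases e <;> omega
  have g6 := h'.not_dvd_iff.2 (relIndex_eq_one.1 g5)
  have g7 := h'.index_of_not_dvd g6
  rw [bot_of_SX (by rw [h7]; norm_num) h' (normalizer_eq_top (commutator S) ▸ mem_top y) g6, index_bot] at g7
  omega

/-- no element of order `11 r` -/
theorem SX_of_forall (hG : Nat.card G = 7920) {x : G} (hx : orderOf x = 11)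
    (h : ∀ r : ℕ, r.Prime → r ≠ 11 → ∀ g, orderOf g = r → g * x ≠ x * g) : SX 11 x := by
  refine ⟨by norm_num, hx, (eq_of_le_of_card_ge (zpowers_le.2 (mem_centralizer_singleton_iff.2 rfl)) ?_).symm⟩
  have := Fact.mk (show Nat.Prime 11 by norm_num)
  have h1 : IsPGroup 11 (centralizer ({x} : Set G)) := by
    refine IsPGroup.iff_card.2 ⟨_, Nat.eq_prime_pow_of_unique_prime_dvd Nat.card_pos.ne' fun {r} hr e => ?_⟩
    by_contra hne
    obtain ⟨t, ht⟩ := exists_prime_orderOf_dvd_card' (hp := ⟨hr⟩) r e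
    exact h r hr hne t (by rw [orderOf_coe, ht]) (mem_centralizer_singleton_iff.1 t.2)
  exact Nat.le_of_dvd Nat.card_pos
    ((sylow_data (m := 720) this.out hG (by norm_num) hx).1.card_dvd h1 le_top)

theorem pow_mod_eq_one {p r : ℕ} (hp : p.Prime) (hr : r.Prime) {x : G} (hx : orderOf x = p) {K : Subgroup G}
    (hK : x ∈ normalizer (K : Set G)) (hd : ¬ p ∣ Nat.card K) (hc : ∀ g ∈ K, orderOf g = r → g * x ≠ x * g) :
    r ^ (Nat.card K).factorization r % p = 1 := by
  have := Fact.mk hr
  obtain ⟨R, hR, hA⟩ := exists_invariant_isSylowOf (zpowers x) K (zpowers_le.2 hK)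
    (by rw [Nat.card_zpowers, hx]; exact (Nat.Prime.coprime_iff_not_dvd hp).2 hd) (Or.inl inferInstance) r
  let _ := MulAction.compHom R R.normalizerMonoidHom
  have h1 := card_fixedBy_modEq' (Ω := R) hp (x := (⟨x, hA (mem_zpowers x)⟩ : normalizer (R : Set G)))
    (Subtype.ext (hx ▸ pow_orderOf_eq_one x))
  have h2 : MulAction.fixedBy R (⟨x, hA (mem_zpowers x)⟩ : normalizer (R : Set G)) = {1} := by
    refine Set.eq_singleton_iff_unique_mem.2 ⟨map_one (R.normalizerMonoidHom _), fun s hs => ?_⟩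
    by_contra hne
    have e : x * s * x⁻¹ = s := congrArg Subtype.val hs
    obtain ⟨_, ⟨k, rfl⟩, hy⟩ := exists_order_of_pgroup (X := zpowers (s : G)) (p := r)
      (hR.isPGroup.to_le (zpowers_le.2 s.2)) (by simpa using hne)
    exact hc _ (hR.le (zpow_mem s.2 k)) hy ((show Commute x s from mul_inv_eq_iff_eq_mul.1 e).zpow_right k).symm
  rw [h2, Nat.card_unique (α := ({1} : Set R)), hR.card_eq_pow] at h1
  rw [h1, Nat.mod_eq_of_lt hp.one_lt]

theorem SX_of_index (hG : Nat.card G = 7920) {x : G} (hx : orderOf x = 11)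
    (h : (normalizer ((zpowers x : Subgroup G) : Set G)).index = 144) : SX 11 x := by
  have hp := Fact.mk (show Nat.Prime 11 by norm_num)
  have h1 := (normalizer ((zpowers x : Subgroup G) : Set G)).card_mul_index
  have h2 := card_mul_relIndex (centralizer_le_normalizer ((zpowers x : Subgroup G) : Set G))
  rw [h, hG] at h1
  replace h1 : Nat.card (normalizer ((zpowers x : Subgroup G) : Set G)) = 55 := by omega
  have h3 := Nat.dvd_gcd (relIndex_dvd hp.out hx) (Dvd.intro_left _ h2)
  rw [h1] at h2 h3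
  rcases (Nat.dvd_prime Nat.prime_five).1 h3 with h4 | h4
  · exfalso
    obtain ⟨P, hP⟩ := (sylow_data (m := 720) hp.out hG (by norm_num) hx).1.exists_sylow_top
    obtain ⟨Q, K, hK, hKQ⟩ := Transfer.hasNormalPComplement_of_normalizer_le_centralizer P
      (by rw [← P.coe_coe, hP]; exact relIndex_eq_one.1 h4)
    have h5 : Nat.card K = 720 := by
      have := hKQ.card_mul_card
      rw [Nat.card_congr (Q.equiv P).toEquiv, hP, Nat.card_zpowers, hx] at this
      omega
    have := pow_mod_eq_one hp.out Nat.prime_two hx (normalizer_eq_top K ▸ mem_top x) (by rw [h5]; norm_num)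
      fun g _ hg e => by
        have : g ∈ normalizer ((zpowers x : Subgroup G) : Set G) := centralizer_le_normalizer _ (by
          rintro _ ⟨k, rfl⟩
          exact ((show Commute g x from e).zpow_right k).symm)
        have := orderOf_dvd_natCard _ this
        rw [hg, h1] at this
        norm_num at this
    rw [h5] at this
    exact absurd this (by decide +kernel)
  · refine ⟨hp.out, hx, (eq_of_le_of_card_ge (zpowers_le.2 (mem_centralizer_singleton_iff.2 rfl)) ?_).symm⟩
    rw [← centralizer_closure, ← zpowers_eq_closure, Nat.card_zpowers, hx]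
    rw [h4] at h2
    omega

end Cfsg.Agent.Gl23
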