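import Mathlib
import Cfsg.Agent.Gl23.Sim
import Cfsg.Agent.Inv.ZStar

/-!
A group of order `7920` with disconnected prime graph has self-centralising Sylow `11`-subgroups.
-/

set_option autoImplicit false

namespace Cfsg.Agent.Gl23

open Cfsg.Agent.Core Cfsg.Agent.Block Subgroup MulAction

variable {G : Type*} [Group G] [Finite G]

omit [Finite G] in
theorem dvd_of_sup {Z N : Subgroup G} [Z.Normal] (h : Z ⊔ N = ⊤) {b : ℕ} (hb : b.Prime) (h1 : b ∣ Nat.card G)
    (h2 : ¬ b ∣ Nat.card N) : b ∣ Nat.card Z := by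
  rw [← Z.card_mul_index, ← relIndex_top_right, ← h, relIndex_sup_left] at h1
  exact (hb.dvd_mul.1 h1).resolve_right fun h => h2 (h.trans (relIndex_dvd_card Z N))

omit [Finite G] in
theorem mem_cent_zpowers {x g : G} : g ∈ centralizer ((zpowers x : Subgroup G) : Set G) ↔ g * x = x * g := by
  rw [zpowers_eq_closure, centralizer_closure, mem_cent_iff]

theorem exists_isolated (hG : Nat.card G = 7920) {x : G} (hx : orderOf x = 11)
    (hN : (normalizer ((zpowers x : Subgroup G) : Set G)).index = 45)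
    (hK : (normalizer ((zpowers x : Subgroup G) : Set G)).normalCore = ⊥) :
    ∃ t, IsIsolatedInvolution t ∧ ∀ g, g * t = t * g → g ∈ normalizer ((zpowers x : Subgroup G) : Set G) := by
  classical
  have hp : Nat.Prime 11 := by norm_num
  have := Fact.mk Nat.prime_two
  obtain ⟨hS, -⟩ := sylow_data (m := 720) hp hG (by norm_num) hx
  have h3 := (normalizer ((zpowers x : Subgroup G) : Set G)).card_mul_index
  have h4 := card_mul_relIndex (centralizer_le_normalizer ((zpowers x : Subgroup G) : Set G))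
  have h5 := relIndex_dvd hp hx
  have h6 := normalizer_le_normalizer_centralizer ((zpowers x : Subgroup G) : Set G)
  have h7 := fun y => card_fixedBy_cent (y := y) hp hx hS
  have h8 : zpowers x ≤ normalizer ((zpowers x : Subgroup G) : Set G) := le_normalizer
  have h9 := fun g => mem_cent_zpowers (x := x) (g := g)
  generalize normalizer ((zpowers x : Subgroup G) : Set G) = N at *
  generalize centralizer ((zpowers x : Subgroup G) : Set G) = C at *
  rw [hN, hG] at h3
  replace h3 : Nat.card N = 176 := by omega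
  have := Fintype.ofFinite (G ⧸ N)
  set E := (Equiv.Perm.sign.comp (toPermHom G (G ⧸ N))).ker
  have e1 : E.index ∣ 2 := by
    rw [index_ker]
    simpa using card_subgroup_dvd_card (Equiv.Perm.sign.comp (toPermHom G (G ⧸ N))).range
  obtain ⟨S, hS'⟩ := exists_isSylowOf 2 N
  have e2 : Nat.card S = 16 := by rw [hS'.card_eq_pow, h3]; decide +kernel
  have e3 : C.relIndex N ≤ 2 := Nat.le_of_dvd two_pos (by simpa [h3] using Nat.dvd_gcd h5 (Dvd.intro_left _ h4))
  have e4 : (C ⊓ E).relIndex S ≤ 4 := by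
    have a1 : C.relIndex S ≤ 2 := (relIndex_le_of_le_right hS'.le (FiniteIndex.index_ne_zero)).trans e3
    have a2 : E.relIndex S ≤ 2 := Nat.le_of_dvd two_pos ((relIndex_dvd_index_of_normal E S).trans e1)
    exact relIndex_inf_le.trans (Nat.mul_le_mul a1 a2)
  obtain ⟨t, ⟨⟨t1, t2⟩, t3⟩, t4, t5, t6⟩ := PGrp.exists_central_mod (M := C ⊓ E ⊓ S) (N := ⊥) hS'.isPGroup inf_le_right
    (le_normalizer_inf (le_normalizer_inf (hS'.le.trans h6) (normalizer_eq_top E ▸ le_top)) le_normalizer)
    (normalizer_eq_top (⊥ : Subgroup G) ▸ le_top) (fun h => by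
      rw [← inf_relIndex_right, le_bot_iff.1 h, relIndex_bot_left] at e4
      omega)
  rw [mem_bot] at t4 t5
  have t7 := orderOf_eq_prime t5 t4
  have c1 : N ≤ centralizer {t} := by
    have a1 : S ≤ centralizer {t} ⊓ N := le_inf
      (fun s hs => mem_cent_iff.2 (commutatorElement_eq_one_iff_mul_comm.1 (mem_bot.1 (t6 s hs))).symm) hS'.le
    have a2 : zpowers x ≤ centralizer {t} ⊓ N := le_inf (zpowers_le.2 (mem_cent_iff.2 ((h9 t).1 t1).symm)) h8
    have a3 := Nat.Coprime.mul_dvd_of_dvd_of_dvd (by rw [e2, Nat.card_zpowers, hx]; norm_num)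
      (card_dvd_of_le a1) (card_dvd_of_le a2)
    rw [e2, Nat.card_zpowers, hx] at a3
    exact inf_eq_right.1 (eq_of_le_of_card_ge inf_le_right (h3 ▸ Nat.le_of_dvd Nat.card_pos a3))
  have f1 : Nat.card (fixedBy (G ⧸ N) t) = 1 := by
    have a1 := h7 t ((h9 t).1 t1).symm
    have a2 := card_fixedBy_modEq' (Ω := G ⧸ N) Nat.prime_two t5
    have a3 : Nat.card (fixedBy (G ⧸ N) t) < Nat.card (G ⧸ N) := by
      obtain ⟨ω, hω⟩ : ∃ ω : G ⧸ N, ω ∉ fixedBy (G ⧸ N) t := by
        by_contra! h
        refine t4 (mem_bot.1 (hK ▸ fun g => ?_))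
        simpa using smul_coe_eq_iff.1 (h (g⁻¹ : G))
      exact Finite.card_subtype_lt hω
    have a4 : Equiv.Perm.sign (toPermHom G (G ⧸ N) t) = 1 := t2
    rw [Equiv.Perm.sign_of_pow_two_eq_one (by rw [← map_pow, t5, map_one]), ← Nat.card_eq_fintype_card,
      ← Nat.card_eq_fintype_card] at a4
    have a5 : Even ((Nat.card (G ⧸ N) - Nat.card (fixedBy (G ⧸ N) t)) / 2) :=
      (neg_one_pow_eq_one_iff_even (by decide)).1 a4
    rw [← index_eq_card, hN] at a2 a3 a5
    rw [Nat.ModEq] at a2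
    rw [Nat.even_iff] at a5
    omega
  have f2 : ∀ g, g⁻¹ * t * g ∈ N → g ∈ N := fun g hg => by
    have := (Nat.card_eq_one_iff_unique.1 f1).1.elim ⟨(g : G ⧸ N), smul_coe_eq_iff.2 hg⟩
      ⟨((1 : G) : G ⧸ N), smul_coe_eq_iff.2 (by simpa using hS'.le t3)⟩
    simpa using QuotientGroup.eq.1 (congrArg Subtype.val this)
  have f3 : ∀ g, g * t = t * g → g ∈ N := fun g hg => f2 g (by
    rw [mul_assoc, ← hg, inv_mul_cancel_left]; exact hS'.le t3)
  refine ⟨t, ⟨t7, fun g hg => ?_⟩, f3⟩
  rw [mem_cent_iff.1 (c1 (inv_mem_iff.1 (f2 g⁻¹ (by rw [inv_inv]; exact f3 _ hg.symm)))), mul_inv_cancel_right]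

theorem index_ne_45 (hG : Nat.card G = 7920) {b : ℕ} (hb : b = 3 ∨ b = 5)
    (h2 : ∀ u v : G, orderOf u = 2 → orderOf v = b → u * v ≠ v * u) {x : G} (hx : orderOf x = 11)
    (h11 : ∀ v : G, orderOf v = b → v * x ≠ x * v) :
    (normalizer ((zpowers x : Subgroup G) : Set G)).index ≠ 45 := fun hN => by
  have hp := Fact.mk (show Nat.Prime 11 by norm_num)
  have hbp : Fact b.Prime := ⟨by rcases hb with rfl | rfl <;> norm_num⟩
  obtain ⟨hS, -⟩ := sylow_data (m := 720) hp.out hG (by norm_num) hx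
  have h3 := (normalizer ((zpowers x : Subgroup G) : Set G)).card_mul_index
  rw [hN, hG] at h3
  replace h3 : Nat.card (normalizer ((zpowers x : Subgroup G) : Set G)) = 176 := by omega
  have key : ∀ Z : Subgroup G, Z.Normal → Z ⊔ normalizer ((zpowers x : Subgroup G) : Set G) = ⊤ →
      b ∣ Nat.card Z := fun Z _ h =>
    dvd_of_sup h hbp.out (by rcases hb with rfl | rfl <;> simp [hG]) (by rcases hb with rfl | rfl <;> simp [h3])
  have hm : ∀ Z : Subgroup G, Z.Normal → 11 ∣ Nat.card Z → x ∈ Z := fun Z _ h => by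
    have h1 := (hS.inf_of_normal (N := Z) le_top (normalizer_eq_top Z ▸ le_top)).ne_bot h
    rcases (zpowers x ⊓ Z).subgroupOf (zpowers x) |>.eq_bot_or_eq_top_of_prime_card
      (hp := ⟨by rw [Nat.card_zpowers, hx]; norm_num⟩) with h2 | h2
    · exact absurd (disjoint_iff.1 (subgroupOf_eq_bot.1 h2)) (by rwa [inf_eq_left.2 inf_le_left])
    · exact (subgroupOf_eq_top.1 h2 (mem_zpowers x)).2
  have hK : (normalizer ((zpowers x : Subgroup G) : Set G)).normalCore = ⊥ := by
    by_contra hne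
    have a0 := (normalizer ((zpowers x : Subgroup G) : Set G)).normalCore_le
    generalize hK : (normalizer ((zpowers x : Subgroup G) : Set G)).normalCore = K at a0 hne
    have : K.Normal := hK ▸ inferInstance
    have a1 : ¬ 11 ∣ Nat.card K := fun h => by
      have := (hS.of_le (zpowers_le.2 (hm K this h)) le_top).frattini_top
      rw [sup_eq_right.2 a0] at this
      simp [this] at hN
    have a2 : x ∈ centralizer (K : Set G) := fun k hk => commutatorElement_eq_one_iff_mul_comm.1
      (eq_one_of_isPGroup_of_not_dvd hp.out hS.isPGroup (by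
        rw [commutatorElement_def]
        exact mul_mem ((mem_normalizer_iff.1 (a0 hk) _).1 (mem_zpowers x)) (inv_mem (mem_zpowers x)))
      fun e => a1 (e.trans (orderOf_dvd_natCard K (by
        rw [commutatorElement_def, mul_assoc, mul_assoc, ← mul_assoc x]
        exact mul_mem hk (this.conj_mem _ (inv_mem hk) x)))))
    obtain ⟨v, hv⟩ := exists_prime_orderOf_dvd_card' b
      (key _ inferInstance (hS.of_le (zpowers_le.2 a2) le_top).frattini_top)
    have a3 : Nat.card K ∣ 11 * 2 ^ 4 := (card_dvd_of_le a0).trans h3.dvd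
    obtain ⟨k, -, hk⟩ := (Nat.dvd_prime_pow Nat.prime_two).1
      (((Nat.Prime.coprime_iff_not_dvd hp.out).2 a1).symm.dvd_of_dvd_mul_left a3)
    have := Fact.mk Nat.prime_two
    obtain ⟨u, hu, hu2⟩ := exists_order_of_pgroup (X := K) (IsPGroup.of_card hk) hne
    exact h2 u v hu2 (by rw [orderOf_coe, hv]) (v.2 u hu)
  obtain ⟨t, ht, h4⟩ := exists_isolated hG hx hN hK
  have h5 := key (oddCore G) inferInstance (eq_top_iff.2 fun g _ => by
    obtain ⟨o, ho, c, hc, rfl⟩ := Inv.zstar_factor ht g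
    exact mul_mem_sup ho (h4 c hc))
  have h6 := Inv.odd_card_oddCore (G := G)
  have h7 := hm (oddCore G) inferInstance
  have h8 := card_subgroup_dvd_card (oddCore G)
  have h9 : x ∈ normalizer (oddCore G : Set G) := normalizer_eq_top (oddCore G) ▸ mem_top x
  generalize oddCore G = O at *
  rw [hG] at h8
  by_cases h10 : 11 ∣ Nat.card O
  · have a1 : ∀ g ∈ O, g ∈ normalizer ((zpowers x : Subgroup G) : Set G) → g ∈ zpowers x := fun g g1 g2 => by
      have b1 : Nat.card (O ⊓ normalizer ((zpowers x : Subgroup G) : Set G) : Subgroup G) ∣ 2 ^ 4 * 11 :=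
        (card_dvd_of_le inf_le_right).trans h3.dvd
      have b2 := ((Nat.coprime_two_right.2 (h6.of_dvd_nat (card_dvd_of_le inf_le_left))).pow_right 4).dvd_of_dvd_mul_left b1
      rw [eq_of_le_of_card_ge (le_inf (zpowers_le.2 (h7 h10)) le_normalizer)
        (by rw [Nat.card_zpowers, hx]; exact Nat.le_of_dvd (by norm_num) b2)]
      exact ⟨g1, g2⟩
    have a2 : normalizer (zpowers (⟨x, h7 h10⟩ : O) : Set O) ≤ zpowers (⟨x, h7 h10⟩ : O) := fun n hn => by
      obtain ⟨k, hk⟩ := a1 n n.2 (mem_normalizer_fintype (by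
        rintro _ ⟨k, rfl⟩
        obtain ⟨j, hj⟩ := (mem_normalizer_iff.1 hn _).1 (zpow_mem_zpowers _ k)
        exact ⟨j, congrArg Subtype.val hj⟩))
      exact ⟨k, Subtype.ext hk⟩
    have a3 : SX 11 (⟨x, h7 h10⟩ : O) := ⟨hp.out, by rw [← orderOf_coe, hx], le_antisymm
      (fun g hg => a2 (centralizer_le_normalizer _ (mem_cent_zpowers.2 (mem_cent_iff.1 hg))))
      (zpowers_le.2 (mem_cent_iff.2 rfl))⟩
    have a4 := a3.not_dvd_iff.2 a2
    have a5 := a3.index_of_not_dvd a4
    rw [bot_of_SX h8 a3 (normalizer_eq_top (commutator O) ▸ mem_top _) a4, index_bot] at a5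
    rcases hb with rfl | rfl <;> omega
  · have a1 := pow_mod_eq_one hp.out hbp.out hx h9 h10 fun g _ => h11 g
    have a2 := (Nat.ordProj_dvd (Nat.card O) b).trans h8
    have a3 := hbp.out.factorization_pos_of_dvd Nat.card_pos.ne' h5
    generalize (Nat.card O).factorization b = k at *
    have a4 : k < 3 := by
      by_contra a4
      have := (pow_dvd_pow b (not_lt.1 a4)).trans a2
      rcases hb with rfl | rfl <;> omega
    rcases hb with rfl | rfl <;> interval_cases k <;> omega

theorem SX_of_disc (hG : Nat.card G = 7920) {A : Set ℕ} (h11 : 11 ∈ A) {b : ℕ} (hb : b ∉ A) (hbp : b.Prime)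
    (hbd : b ∣ Nat.card G) (h : ∀ u v : G, (orderOf u).Prime → (orderOf v).Prime → orderOf u ∈ A → orderOf v ∉ A →
      u * v ≠ v * u) {x : G} (hx : orderOf x = 11) : SX 11 x := by
  have hp : Nat.Prime 11 := by norm_num
  obtain ⟨hS, h1, h2⟩ := sylow_data (m := 720) hp hG (by norm_num) hx
  have h3 := (normalizer ((zpowers x : Subgroup G) : Set G)).card_mul_index
  have h4 := card_mul_relIndex (centralizer_le_normalizer ((zpowers x : Subgroup G) : Set G))
  have h5 := relIndex_dvd hp hx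
  have h6 : ∀ r : ℕ, r.Prime → r ∣ Nat.card (centralizer ((zpowers x : Subgroup G) : Set G)) → r ∈ A :=
    fun r hr e => by
      by_contra hn
      obtain ⟨v, hv⟩ := exists_prime_orderOf_dvd_card' (hp := ⟨hr⟩) r e
      rw [← orderOf_coe] at hv
      exact h x v (hx ▸ hp) (hv ▸ hr) (hx ▸ h11) (hv ▸ hn) (mem_cent_zpowers.1 v.2).symm
  have h7 : b = 2 ∨ b = 3 ∨ b = 5 := by
    have h8 : b ≠ 11 := fun e => hb (e ▸ h11)
    rw [hG] at hbd
    exact (by decide +kernel : ∀ b ∈ Nat.primeFactorsList 7920, b ≠ 11 → b = 2 ∨ b = 3 ∨ b = 5) b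
      ((Nat.mem_primeFactorsList (by norm_num)).2 ⟨hbp, hbd⟩) h8
  have h8 : 4 ∣ Nat.card (normalizer ((zpowers x : Subgroup G) : Set G)) → 2 ∈ A := fun e => h6 2 Nat.prime_two (by
    have := Nat.le_of_dvd (by norm_num) h5
    rw [← h4] at e
    generalize (centralizer ((zpowers x : Subgroup G) : Set G)).relIndex _ = k at *
    interval_cases k <;> omega)
  have h9 : 60 ∣ Nat.card (normalizer ((zpowers x : Subgroup G) : Set G)) → False := fun e => by
    have a1 : 3 ∣ Nat.card (centralizer ((zpowers x : Subgroup G) : Set G)) :=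
      (Nat.prime_three.dvd_mul.1 (by rw [h4]; omega)).resolve_right fun h => absurd (h.trans h5) (by norm_num)
    have a2 := h6 3 Nat.prime_three a1
    have a3 := h8 (by omega)
    obtain rfl : b = 5 := by
      rcases h7 with rfl | rfl | rfl
      exacts [absurd a3 hb, absurd a2 hb, rfl]
    obtain ⟨y, hy⟩ := exists_prime_orderOf_dvd_card' (hp := ⟨hbp⟩)
      (G := normalizer ((zpowers x : Subgroup G) : Set G)) 5 (by omega)
    rw [← orderOf_coe] at hy
    have a4 := pow_mod_eq_one hbp Nat.prime_three hy (normalizer_le_normalizer_centralizer _ y.2)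
      (fun e => hb (h6 5 hbp e)) fun g _ hg => h g y (hg ▸ Nat.prime_three) (hy ▸ hbp) (hg ▸ a2) (hy ▸ hb)
    have a5 := (Nat.ordProj_dvd _ 3).trans
      (card_subgroup_dvd_card (centralizer ((zpowers x : Subgroup G) : Set G)))
    have a6 := Nat.prime_three.factorization_pos_of_dvd Nat.card_pos.ne' a1
    generalize (Nat.card (centralizer ((zpowers x : Subgroup G) : Set G))).factorization 3 = k at *
    have a7 : k < 3 := by
      by_contra a7
      have := (pow_dvd_pow 3 (not_lt.1 a7)).trans a5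
      omega
    interval_cases k <;> omega
  rcases (by decide +kernel : ∀ n ≤ 720, n % 11 = 1 % 11 → n ∣ 720 → n = 1 ∨ n = 12 ∨ n = 45 ∨ n = 144) _
    (Nat.le_of_dvd (by norm_num) h2) h1 h2 with e | e | e | e
  · rw [e] at h3; exact (h9 (by omega)).elim
  · rw [e] at h3; exact (h9 (by omega)).elim
  · rw [e] at h3
    have a1 := h8 (by omega)
    exact absurd e (index_ne_45 hG (h7.resolve_left fun e => hb (e ▸ a1))
      (fun u v hu hv => h u v (hu ▸ Nat.prime_two) (hv ▸ hbp) (hu ▸ a1) (hv ▸ hb)) hx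
      fun v hv => (h x v (hx ▸ hp) (hv ▸ hbp) (hx ▸ h11) (hv ▸ hb)).symm)
  · exact SX_of_index hG hx e

end Cfsg.Agent.Gl23
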