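import Mathlib
import Cfsg.Agent.Herm.SU3
import Cfsg.Prelude.Def_Transfer
import Cfsg.Prelude.Def_Solvable

/-!
Automorphisms of the Sylow 2-subgroup of `SU₃(2ⁿ)`.
-/

set_option autoImplicit false
set_option linter.unusedSectionVars false

namespace Cfsg.Agent.Gl23.HA

open Cfsg.Agent.Herm

variable {F : Type*} [Field F] [Finite F] [CharP F 2] {σ : F →+* F}

theorem two0 : (2 : F) = 0 := CharTwo.two_eq_zero

theorem semi0 (h : Inv σ) (α : F →+ F) (β : F → F)
    (hinj : Function.Injective α) (h1 : α 1 = 1)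
    (hβ : ∀ x y, σ x = x → σ y = y → β (x + y) = β x + β y)
    (hβ0 : ∀ x, σ x = x → β x = 0 → x = 0)
    (hN : ∀ a, σ (α a) * α a = β (σ a * a)) : ∀ a b, α (a * b) = α a * α b := by
  have t2 := two0 (F := F)
  have fN : ∀ a, σ (σ a * a) = σ a * a := fun a => by rw [map_mul, h.invol, mul_comm]
  have fB : ∀ a b, σ (σ a * b + σ b * a) = σ a * b + σ b * a := fun a b => by
    rw [map_add, map_mul, map_mul, h.invol, h.invol]; ring
  have b0 : β 0 = 0 := by
    have := hβ 0 0 (map_zero _) (map_zero _)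
    rw [add_zero] at this
    linear_combination -this
  have hB : ∀ a b, σ (α a) * α b + σ (α b) * α a = β (σ a * b + σ b * a) := by
    intro a b
    have e1 := hN (a + b)
    have e2 : σ (a + b) * (a + b) = σ a * a + (σ b * b + (σ a * b + σ b * a)) := by
      rw [map_add]; ring
    rw [e2, hβ _ _ (fN a) (by rw [map_add, fN, fB]), hβ _ _ (fN b) (fB a b), ← hN, ← hN, map_add,
      map_add] at e1
    linear_combination e1
  -- fixed elements
  have hK : ∀ a, σ (α a) = α a ↔ σ a = a := by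
    intro a
    have := hB 1 a
    rw [h1, map_one, one_mul, mul_one, one_mul, mul_one] at this
    constructor
    · intro e
      have e2 : a + σ a = 0 := hβ0 _ (by rw [map_add, h.invol, add_comm]) (by
        rw [← this, e]; linear_combination (α a) * t2)
      linear_combination e2 - a * t2
    · intro e
      rw [e, CharTwo.add_self_eq_zero, b0] at this
      linear_combination this - α a * t2
  have hne : ∀ a, a ≠ 0 → α a ≠ 0 := fun a ha e => ha (hinj (by rw [e, map_zero]))
  -- lines go to lines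
  have hL : ∀ y a, σ y = y → ∃ m, σ m = m ∧ α (y * a) = m * α a := by
    intro y a hy
    by_cases ha : a = 0
    · exact ⟨0, map_zero _, by simp [ha]⟩
    have := hB a (y * a)
    rw [map_mul σ, hy, show σ a * (y * a) + y * σ a * a = 0 by linear_combination y * σ a * a * t2,
      b0] at this
    have h3 := hne a ha
    have h4 : σ (α a) ≠ 0 := by simpa using h3
    refine ⟨α (y * a) / α a, ?_, by field_simp⟩
    rw [map_div₀]; field_simp
    linear_combination this - σ (α a) * α (y * a) * t2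
  have hS : ∀ y θ, σ y = y → σ θ ≠ θ → α (y * θ) = α y * α θ := by
    intro y θ hy hθ
    obtain ⟨m, hm, e1⟩ := hL y θ hy
    obtain ⟨m', hm', e2⟩ := hL y (1 + θ) hy
    rw [mul_add, mul_one, map_add, map_add, h1, e1] at e2
    have e3 := congrArg σ e2
    simp only [map_add, map_mul, map_one, hm, hm', (hK y).2 hy] at e3
    have h5 : σ (α θ) - α θ ≠ 0 := sub_ne_zero.2 fun e => hθ ((hK θ).1 e)
    have e4 : m = m' := by
      have : (m - m') * (σ (α θ) - α θ) = 0 := by linear_combination e3 - e2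
      exact sub_eq_zero.1 ((mul_eq_zero.1 this).resolve_right h5)
    rw [e1, e4]
    rw [e4] at e2
    congr 1
    linear_combination -e2
  obtain ⟨θ, hθ⟩ := h.ne
  have hθ' : α θ ≠ 0 := hne θ (by rintro rfl; simp at hθ)
  have hM : ∀ y a, σ y = y → α (y * a) = α y * α a := by
    intro y a hy
    by_cases ha : σ a = a
    · by_cases ha0 : a = 0
      · simp [ha0]
      have e1 := hS y (a * θ) hy (by rw [map_mul, ha]; exact fun e => hθ (mul_left_cancel₀ ha0 e))
      rw [← mul_assoc, hS _ θ (by rw [map_mul, hy, ha]) hθ, hS a θ ha hθ, ← mul_assoc] at e1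
      exact mul_right_cancel₀ hθ' e1
    · exact hS y a hy ha
  -- `β = α` on the fixed field
  have hβα : ∀ x, σ x = x → β x = α x := by
    intro x hx
    obtain ⟨y, hy⟩ := (bijective_frobenius F 2).2 x
    rw [frobenius_def] at hy
    have hy2 : σ y = y := (bijective_frobenius F 2).1 (by
      rw [frobenius_def, frobenius_def, ← map_pow, hy, hx])
    have := hN y
    rw [hy2, (hK y).2 hy2, ← hM y y hy2, ← sq, hy] at this
    exact this.symm
  have hθθ : α (θ * θ) = α θ * α θ := by
    have e1 := hB 1 θ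
    rw [h1, map_one, one_mul, mul_one, one_mul, mul_one,
      hβα _ (by rw [map_add, h.invol, add_comm])] at e1
    have e2 := hN θ
    rw [hβα _ (fN θ)] at e2
    have e3 : θ * θ = (θ + σ θ) * θ + σ θ * θ := by linear_combination - σ θ * θ * t2
    rw [e3, map_add, hM _ _ (by rw [map_add, h.invol, add_comm]), ← e1, ← e2]
    linear_combination σ (α θ) * α θ * t2
  have dec : ∀ a, ∃ x y, σ x = x ∧ σ y = y ∧ a = x + y * θ := by
    intro a
    have h6 : σ θ - θ ≠ 0 := sub_ne_zero.2 hθ
    have h7 : θ - σ θ ≠ 0 := sub_ne_zero.2 (Ne.symm hθ)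
    refine ⟨a - (σ a - a) / (σ θ - θ) * θ, (σ a - a) / (σ θ - θ), ?_, ?_, by ring⟩
    · simp only [map_sub, map_mul, map_div₀, h.invol]; field_simp; ring
    · simp only [map_sub, map_div₀, h.invol]; field_simp; ring
  intro a b
  obtain ⟨x, y, hx, hy, rfl⟩ := dec a
  obtain ⟨x', y', hx', hy', rfl⟩ := dec b
  have e : (x + y * θ) * (x' + y' * θ) = x * x' + (x * (y' * θ) + (y * (x' * θ) + y * (y' * (θ * θ)))) := by
    ring
  rw [e]
  simp only [map_add, hM _ _ hx, hM _ _ hy, hM _ _ hx', hM _ _ hy', hθθ]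
  ring

variable {h : Inv σ}

/-- a section of the projection -/
noncomputable def sec (h : Inv σ) (a : F) : Heis h := (Heis.exists_a h a).choose

theorem sec_a (a : F) : (sec h a).a = a := (Heis.exists_a h a).choose_spec

theorem map_a0 (φ : MulAut (Heis h)) {x : Heis h} : (φ x).a = 0 ↔ x.a = 0 := by
  rw [← Heis.mul_self_eq_one_iff, ← Heis.mul_self_eq_one_iff, ← map_mul, map_eq_one_iff _ φ.injective]

theorem map_a_congr (φ : MulAut (Heis h)) {x y : Heis h} (e : x.a = y.a) : (φ x).a = (φ y).a := by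
  have : (x⁻¹ * y).a = 0 := by simp [e]
  rw [← map_a0 φ, map_mul, map_inv, Heis.mul_a, Heis.inv_a] at this
  linear_combination -this

/-- the induced map on the quotient by the centre -/
noncomputable def al (φ : MulAut (Heis h)) : F →+ F :=
  AddMonoidHom.mk' (fun a => (φ (sec h a)).a) fun a b => by
    rw [← Heis.mul_a, ← map_mul]
    exact map_a_congr φ (by simp [sec_a])

theorem al_a (φ : MulAut (Heis h)) (x : Heis h) : (φ x).a = al φ x.a :=
  map_a_congr φ (sec_a _).symm

theorem al_mul (φ ψ : MulAut (Heis h)) (a : F) : al (φ * ψ) a = al φ (al ψ a) := by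
  rw [← sec_a (h := h) a, ← al_a, ← al_a, ← al_a]; rfl

theorem al_one (a : F) : al (1 : MulAut (Heis h)) a = a := by
  rw [← sec_a (h := h) a, ← al_a]; rfl

theorem al_inj (φ : MulAut (Heis h)) : Function.Injective (al φ) := fun a b e => by
  have := congrArg (al φ⁻¹) e
  rwa [← al_mul, ← al_mul, inv_mul_cancel, al_one, al_one] at this

theorem skew_of_fix {l : F} (hl : σ l = l) : l + σ l = 0 := by rw [hl, CharTwo.add_self_eq_zero]

/-- the induced map on the centre -/
noncomputable def be (φ : MulAut (Heis h)) (l : F) : F :=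
  have := Classical.dec (σ l = l)
  if hl : σ l = l then (φ (Heis.z h l (skew_of_fix hl))).l else 0

theorem be_l (φ : MulAut (Heis h)) {x : Heis h} (hx : x.a = 0) : (φ x).l = be φ x.l := by
  rw [be, dif_pos (Heis.fix_of_a hx)]
  exact congrArg (fun y => (φ y).l) (Heis.ext hx rfl)

theorem be_norm (φ : MulAut (Heis h)) (a : F) : σ (al φ a) * al φ a = be φ (σ a * a) := by
  rw [← sec_a (h := h) a, ← al_a, ← Heis.sq_l, ← Heis.sq_l, ← be_l φ (Heis.sq_a _), map_mul]

theorem be_add (φ : MulAut (Heis h)) (x y : F) (hx : σ x = x) (hy : σ y = y) :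
    be φ (x + y) = be φ x + be φ y := by
  have e1 := be_l φ (x := Heis.z h x (skew_of_fix hx)) rfl
  have e2 := be_l φ (x := Heis.z h y (skew_of_fix hy)) rfl
  have e3 := be_l φ (x := Heis.z h x (skew_of_fix hx) * Heis.z h y (skew_of_fix hy)) (by simp [Heis.z])
  have e4 : (φ (Heis.z h y (skew_of_fix hy))).a = 0 := (map_a0 φ).2 rfl
  rw [map_mul, Heis.mul_l, e4, e1, e2] at e3
  simpa [Heis.z] using e3.symm

theorem be_zero (φ : MulAut (Heis h)) (x : F) (hx : σ x = x) (e : be φ x = 0) : x = 0 := by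
  have e1 := be_l φ (x := Heis.z h x (skew_of_fix hx)) rfl
  have e4 : (φ (Heis.z h x (skew_of_fix hx))).a = 0 := (map_a0 φ).2 rfl
  have : φ (Heis.z h x (skew_of_fix hx)) = 1 := Heis.ext e4 (e1.trans e)
  exact congrArg Heis.l ((map_eq_one_iff _ φ.injective).1 this)

/-- every automorphism is semilinear modulo the centre -/
theorem al_semi (φ : MulAut (Heis h)) : ∃ (c : Fˣ) (ρ : F ≃+* F), ∀ a, al φ a = c * ρ a := by
  have hc : al φ 1 ≠ 0 := fun e => one_ne_zero (al_inj φ (e.trans (map_zero _).symm))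
  have hc' : σ (al φ 1) ≠ 0 := by simpa using hc
  let α : F →+ F := (AddMonoidHom.mulLeft (al φ 1)⁻¹).comp (al φ)
  have hα : ∀ a, α a = (al φ 1)⁻¹ * al φ a := fun _ => rfl
  have hinj : Function.Injective α := fun a b e =>
    al_inj φ (mul_left_cancel₀ (inv_ne_zero hc) e)
  have h1 : α 1 = 1 := by rw [hα, inv_mul_cancel₀ hc]
  have := semi0 h α (fun l => (σ (al φ 1) * al φ 1)⁻¹ * be φ l) hinj h1
    (fun x y hx hy => by rw [be_add φ x y hx hy, mul_add])
    (fun x hx e => be_zero φ x hx ((mul_eq_zero.1 e).resolve_left (by simp [hc])))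
    (fun a => by rw [← be_norm, hα, map_mul, map_inv₀]; field_simp)
  let ρ : F →+* F := { α with map_one' := h1, map_mul' := this }
  refine ⟨Units.mk0 _ hc, RingEquiv.ofBijective ρ (Finite.injective_iff_bijective.1 hinj), fun a => ?_⟩
  change _ = al φ 1 * α a
  rw [hα, mul_inv_cancel_left₀ hc]

theorem sq_card (h : Inv σ) : Nat.card F = Nat.card (fixF σ) ^ 2 := h.card_eq_sq

theorem comm_rho (h : Inv σ) (ρ : F ≃+* F) (a : F) : ρ (σ a) = σ (ρ a) := by
  rw [h.apply_pow (sq_card h), h.apply_pow (sq_card h), map_pow]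

/-- an automorphism trivial on the quotient fixes the centre -/
theorem fix_center (φ : MulAut (Heis h)) (hφ : ∀ a, σ (al φ a) * al φ a = σ a * a) {x : Heis h}
    (hx : x.a = 0) : φ x = x := by
  obtain ⟨a, ha⟩ := h.exists_norm (Heis.fix_of_a hx)
  exact Heis.ext (((map_a0 φ).2 hx).trans hx.symm) (by rw [be_l φ hx, ← ha, ← be_norm, hφ])

theorem fix_of_sq (φ : MulAut (Heis h)) (hφ : ∀ a, al φ (al φ a) = a) {x : Heis h}
    (hx : x.a = 0) : φ x = x := by
  obtain ⟨c, ρ, e⟩ := al_semi φ
  have h1 := hφ 1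
  rw [e, e, map_one, mul_one] at h1
  have h2 : ∀ a, ρ (ρ a) = a := fun a => by
    have := hφ a
    rwa [e, e, map_mul, ← mul_assoc, h1, one_mul] at this
  refine fix_center φ (fun a => ?_) hx
  by_cases hρ : ∀ a, ρ a = a
  · rw [hρ] at h1
    have : (c : F) = 1 := (bijective_frobenius F 2).1 (by
      rw [frobenius_def, frobenius_def, sq, h1, one_pow])
    rw [e, hρ, this, one_mul]
  · push Not at hρ
    have hi : Inv (ρ : F →+* F) := ⟨h2, hρ⟩
    have h3 : ∀ a, ρ a = σ a := fun a => by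
      rw [h.apply_pow (sq_card h)]; exact hi.apply_pow (sq_card h) a
    rw [h3] at h1
    rw [e, h3, map_mul, h.invol]
    linear_combination σ a * a * h1

/-- field automorphisms -/
def fr (h : Inv σ) (ρ : F ≃+* F) : MulAut (Heis h) where
  toFun x := ⟨ρ x.a, ρ x.l, by rw [← comm_rho h, ← comm_rho h, ← map_add, x.prop, map_mul]⟩
  invFun x := ⟨ρ.symm x.a, ρ.symm x.l, by rw [← comm_rho h, ← comm_rho h, ← map_add, x.prop, map_mul]⟩
  left_inv x := Heis.ext (by simp) (by simp)
  right_inv x := Heis.ext (by simp) (by simp)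
  map_mul' x y := Heis.ext (by simp) (by simp [comm_rho h])

theorem fr_a (ρ : F ≃+* F) (x : Heis h) : (fr h ρ x).a = ρ x.a := rfl

theorem ce_prop (f : F →+ fixF σ) (x : Heis h) : x.l + f x.a + σ (x.l + f x.a) = σ x.a * x.a := by
  rw [map_add, mem_fixF.1 (f x.a).2]
  linear_combination x.prop + (f x.a : F) * two0 (F := F)

/-- central automorphisms -/
def ce (h : Inv σ) (f : F →+ fixF σ) : MulAut (Heis h) where
  toFun x := ⟨x.a, x.l + f x.a, ce_prop f x⟩
  invFun x := ⟨x.a, x.l + f x.a, ce_prop f x⟩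
  left_inv x := Heis.ext rfl (by simp [add_assoc, CharTwo.add_self_eq_zero])
  right_inv x := Heis.ext rfl (by simp [add_assoc, CharTwo.add_self_eq_zero])
  map_mul' x y := Heis.ext rfl (by simp; ring)

theorem ce_a (f : F →+ fixF σ) (x : Heis h) : (ce h f x).a = x.a := rfl
theorem ce_l (f : F →+ fixF σ) (x : Heis h) : (ce h f x).l = x.l + f x.a := rfl

theorem exists_ce (φ : MulAut (Heis h)) (hφ : ∀ a, al φ a = a) : ∃ f, φ = ce h f := by
  have ha : ∀ x, (φ x).a = x.a := fun x => by rw [al_a, hφ]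
  have hz : ∀ x : Heis h, x.a = 0 → φ x = x := fun x hx => fix_center φ (fun a => by rw [hφ]) hx
  have hd : ∀ x y : Heis h, x.a = y.a → (φ x).l - x.l = (φ y).l - y.l := fun x y e => by
    have e1 : (x⁻¹ * y).a = 0 := by simp [e]
    have e2 := congrArg Heis.l (hz _ e1)
    rw [map_mul, map_inv] at e2
    simp only [Heis.mul_l, Heis.inv_l, Heis.inv_a, ha] at e2
    have p1 := (φ x).prop
    rw [ha] at p1
    linear_combination p1 - x.prop - e2
  have hf : ∀ x : Heis h, (φ x).l - x.l ∈ fixF σ := fun x => by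
    have p1 := (φ x).prop
    rw [ha] at p1
    rw [mem_fixF, map_sub]
    linear_combination p1 - x.prop - ((φ x).l - x.l) * two0 (F := F)
  refine ⟨AddMonoidHom.mk' (fun a => ⟨(φ (sec h a)).l - (sec h a).l, hf _⟩) fun a b => Subtype.ext ?_,
    MulEquiv.ext fun x => Heis.ext (ha x) ?_⟩
  · change (φ (sec h (a + b))).l - (sec h (a + b)).l =
      (φ (sec h a)).l - (sec h a).l + ((φ (sec h b)).l - (sec h b).l)
    rw [hd _ (sec h a * sec h b) (by simp [sec_a]), map_mul, Heis.mul_l, Heis.mul_l, ha, ha]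
    ring
  · change _ = x.l + ((φ (sec h x.a)).l - (sec h x.a).l)
    rw [hd _ x (sec_a _)]; ring

theorem ce_inj : Function.Injective (ce h) := fun f g e => by
  ext a
  have := congrArg (fun φ : MulAut (Heis h) => (φ (sec h a)).l) e
  simpa [ce_l, sec_a] using this

/-- the action on the quotient by the centre -/
noncomputable def pi (h : Inv σ) : MulAut (Heis h) →* Function.End F where
  toFun φ := fun a => al φ a
  map_one' := funext al_one
  map_mul' φ ψ := funext (al_mul φ ψ)

theorem mem_ker {φ : MulAut (Heis h)} : φ ∈ (pi h).ker ↔ ∀ a, al φ a = a :=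
  ⟨fun e a => congrFun e a, fun e => funext e⟩

theorem al_ce (f : F →+ fixF σ) (a : F) : al (ce h f) a = a := by
  rw [← sec_a (h := h) a, ← al_a, ce_a]

theorem al_diag (c : Fˣ) (a : F) : al (Heis.diag h c) a = c * a := by
  rw [← sec_a (h := h) a, ← al_a, Heis.diag_a]

theorem al_fr (ρ : F ≃+* F) (a : F) : al (fr h ρ) a = ρ a := by
  rw [← sec_a (h := h) a, ← al_a, fr_a]

theorem card_ker : Nat.card (pi h).ker = Nat.card (F →+ fixF σ) :=
  (Nat.card_congr (Equiv.ofBijective (fun f => (⟨ce h f, mem_ker.2 (al_ce f)⟩ : (pi h).ker))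
    ⟨fun _ _ e => ce_inj (congrArg Subtype.val e), fun φ =>
      (exists_ce φ.1 (mem_ker.1 φ.2)).imp fun _ e => Subtype.ext e.symm⟩)).symm

theorem card_aut : Nat.card (MulAut (Heis h)) =
    Nat.card (F →+ fixF σ) * (Nat.card (F ≃+* F) * Nat.card Fˣ) := by
  rw [← Nat.card_prod, ← Nat.card_prod]
  refine (Nat.card_congr (Equiv.ofBijective
    (fun p : (F →+ fixF σ) × (F ≃+* F) × Fˣ => ce h p.1 * (Heis.diag h p.2.2 * fr h p.2.1)) ⟨?_, ?_⟩)).symm
  · rintro ⟨f, ρ, c⟩ ⟨f', ρ', c'⟩ e
    have e1 : ∀ a, (c : F) * ρ a = c' * ρ' a := fun a => by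
      have := congrArg (fun φ => al φ a) e
      simpa only [al_mul, al_ce, al_diag, al_fr] using this
    have e2 : c = c' := Units.ext (by simpa using e1 1)
    subst e2
    have e3 : ρ = ρ' := RingEquiv.ext fun a => mul_left_cancel₀ c.ne_zero (e1 a)
    subst e3
    exact Prod.ext (ce_inj (mul_right_cancel e)) rfl
  · intro φ
    obtain ⟨c, ρ, e⟩ := al_semi φ
    obtain ⟨f, hf⟩ := exists_ce (φ * (Heis.diag h c * fr h ρ)⁻¹) fun a => by
      rw [al_mul, e, ← al_fr (h := h), ← al_diag (h := h), ← al_mul, ← al_mul, mul_inv_cancel, al_one]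
    exact ⟨⟨f, ρ, c⟩, by simp only [← hf, inv_mul_cancel_right]⟩

theorem ker_elem : IsElementaryAbelian 2 (pi h).ker := by
  refine ⟨⟨⟨fun x y => Subtype.ext ?_⟩⟩, fun x hx => ?_⟩
  · obtain ⟨f, hf⟩ := exists_ce x.1 (mem_ker.1 x.2)
    obtain ⟨g, hg⟩ := exists_ce y.1 (mem_ker.1 y.2)
    rw [Subgroup.coe_mul, Subgroup.coe_mul, hf, hg]
    exact MulEquiv.ext fun z => Heis.ext rfl (by simp only [MulAut.mul_apply, ce_l, ce_a]; ring)
  · obtain ⟨f, rfl⟩ := exists_ce x (mem_ker.1 hx)
    rw [sq]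
    exact MulEquiv.ext fun z => (ce h f).left_inv z

theorem eq_one_of_pow {c : F} {k : ℕ} (e : c ^ 2 ^ k = 1) : c = 1 :=
  (iterateFrobenius F 2 k).injective (by rw [iterateFrobenius_def, e, map_one])

theorem al_pow {φ : MulAut (Heis h)} {c : F} (e : ∀ a, al φ a = c * a) (m : ℕ) (a : F) :
    al (φ ^ m) a = c ^ m * a := by
  induction m with
  | zero => rw [pow_zero, al_one, pow_zero, one_mul]
  | succ m ih => rw [pow_succ', al_mul, ih, e, pow_succ', mul_assoc]

theorem pCore_eq : pCore 2 (MulAut (Heis h)) = (pi h).ker := by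
  refine le_antisymm (sSup_le ?_) (le_sSup ⟨inferInstance, fun x => ⟨1, Subtype.ext ?_⟩⟩)
  · rintro N ⟨hN, hp⟩ φ hφ
    have key : ∀ ψ ∈ N, ∀ c : F, (∀ a, al ψ a = c * a) → c = 1 := fun ψ hψ c e => by
      obtain ⟨k, hk⟩ := hp ⟨ψ, hψ⟩
      have := al_pow e (2 ^ k) 1
      rw [show ψ ^ 2 ^ k = 1 from congrArg Subtype.val hk, al_one, mul_one] at this
      exact eq_one_of_pow this.symm
    obtain ⟨c, ρ, e⟩ := al_semi φ
    have h1 : ∀ a, ρ a = a := fun a => by
      by_cases ha : a = 0
      · simp [ha]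
      have := key _ (mul_mem hφ (hN.conj_mem _ (inv_mem hφ) (Heis.diag h (Units.mk0 a ha))))
        (a⁻¹ * ρ a) fun b => by
          obtain ⟨b, rfl⟩ := (Finite.injective_iff_surjective.1
            (al_inj (Heis.diag h (Units.mk0 a ha) * φ))) b
          rw [← al_mul, show φ * (Heis.diag h (Units.mk0 a ha) * φ⁻¹ * (Heis.diag h (Units.mk0 a ha))⁻¹) *
            (Heis.diag h (Units.mk0 a ha) * φ) = φ * Heis.diag h (Units.mk0 a ha) by group,
            al_mul, al_mul, al_diag, al_diag, e, e, map_mul, Units.val_mk0]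
          field_simp
      field_simp at this
      exact this
    refine mem_ker.2 fun a => ?_
    rw [e, h1, key φ hφ c fun a => by rw [e, h1], one_mul]
  · simpa using ker_elem.2 x.1 x.2

theorem card_hom {n : ℕ} (h : Inv σ) (hF : Nat.card F = (2 ^ n) ^ 2) :
    Nat.card (F →+ fixF σ) = 2 ^ (2 * n ^ 2) := by
  have : Fact (Nat.Prime 2) := ⟨Nat.prime_two⟩
  let := ZMod.algebra F 2
  let := ZMod.algebra (fixF σ) 2
  have h1 : Module.finrank (ZMod 2) F = 2 * n := by
    have := Module.natCard_eq_pow_finrank (K := ZMod 2) (V := F)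
    rw [hF, Nat.card_zmod, ← pow_mul, mul_comm] at this
    exact (Nat.pow_right_injective le_rfl this).symm
  have h2 : Module.finrank (ZMod 2) (fixF σ) = n := by
    have := Module.natCard_eq_pow_finrank (K := ZMod 2) (V := fixF σ)
    rw [h.card_fixF hF, Nat.card_zmod] at this
    exact (Nat.pow_right_injective le_rfl this).symm
  have : Finite (F →ₗ[ZMod 2] fixF σ) := Finite.of_injective _ DFunLike.coe_injective
  rw [Nat.card_congr (AddMonoidHom.toZModLinearMapEquiv 2).toEquiv,
    Module.natCard_eq_pow_finrank (K := ZMod 2), Module.finrank_linearMap, h1, h2, Nat.card_zmod]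
  congr 1; ring

theorem card_ringEquiv {n : ℕ} (hF : Nat.card F = (2 ^ n) ^ 2) : Nat.card (F ≃+* F) = 2 * n := by
  have : Fact (Nat.Prime 2) := ⟨Nat.prime_two⟩
  let := ZMod.algebra F 2
  have h1 : Module.finrank (ZMod 2) F = 2 * n := by
    have := Module.natCard_eq_pow_finrank (K := ZMod 2) (V := F)
    rw [hF, Nat.card_zmod, ← pow_mul, mul_comm] at this
    exact (Nat.pow_right_injective le_rfl this).symm
  rw [← h1, ← IsGalois.card_aut_eq_finrank]
  exact Nat.card_congr
    { toFun := fun ρ => AlgEquiv.ofRingEquiv (f := ρ) fun x =>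
        DFunLike.congr_fun (Subsingleton.elim ((ρ : F →+* F).comp (algebraMap (ZMod 2) F))
          (algebraMap (ZMod 2) F)) x
      invFun := fun ρ => ρ.toRingEquiv
      left_inv := fun _ => rfl
      right_inv := fun _ => rfl }

end Cfsg.Agent.Gl23.HA
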