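import Mathlib
import Cfsg.Agent.Gl23.Ord1
import Cfsg.Agent.Gl23.Chr
import Cfsg.Agent.S4441

/-!
Simple groups of order `7920`: the principal `11`-block.
-/

set_option autoImplicit false

namespace Cfsg.Agent.Gl23

open Cfsg.Agent.Char Cfsg.Agent.Core Cfsg.Agent.Block Subgroup
open scoped IsMulCommutative

theorem exists_sorted_four {α : Type*} [DecidableEq α] {s : Finset α} (hs : s.card = 4) (f : α → ℕ) :
    ∃ a b c d, [a, b, c, d].Nodup ∧ s = {a, b, c, d} ∧ f a ≤ f b ∧ f b ≤ f c ∧ f c ≤ f d := by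
  have h1 := List.mergeSort_perm s.toList fun a b => decide (f a ≤ f b)
  have h2 := List.pairwise_mergeSort (le := fun a b => decide (f a ≤ f b))
    (fun a b c => by simpa using le_trans) (fun a b => by simpa using le_total _ _) s.toList
  have h3 := h1.length_eq
  have h4 := h1.nodup_iff.2 s.nodup_toList
  have h5 := List.toFinset_eq_of_perm _ _ h1
  rw [Finset.length_toList, hs] at h3
  rw [Finset.toList_toFinset] at h5
  generalize s.toList.mergeSort _ = l at h2 h3 h4 h5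
  match l, h3 with
  | [a, b, c, d], _ =>
    simp only [List.pairwise_cons, decide_eq_true_eq, List.mem_cons, forall_eq_or_imp] at h2
    exact ⟨a, b, c, d, h4, by rw [← h5]; simp, h2.1.1, h2.2.1.1, h2.2.2.1.1⟩

set_option synthInstance.maxSize 1024 in
theorem degX_cases : ∀ n : ℕ, n ≤ 88 → n ∣ 7920 → n ≠ 1 → ∀ e ∈ [(1 : ℤ), -1], (n : ℤ) ≡ e [ZMOD (11 : ℕ)] →
    e = -1 ∧ n = 10 ∨ e = 1 ∧ n = 12 ∨ e = 1 ∧ n = 45 := by decide +kernel

set_option synthInstance.maxSize 1024 in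
theorem degY_cases : ∀ n : ℕ, n ≤ 88 → n ∣ 7920 → ∀ e ∈ [(1 : ℤ), -1], (n : ℤ) ≡ e * (5 : ℕ) [ZMOD (11 : ℕ)] →
    e = 1 ∧ n = 5 ∨ e = 1 ∧ n = 16 ∨ e = 1 ∧ n = 60 ∨ e = -1 ∧ n = 6 ∨ e = -1 ∧ n = 72 := by decide +kernel

variable {G : Type*} [Group G] [Finite G]

omit [Finite G] in
theorem commutator_top [IsSimpleGroup G] (hG : ¬ (Nat.card G).Prime) : commutator G = ⊤ := by
  refine (inferInstance : (commutator G).Normal).eq_bot_or_eq_top.resolve_left fun h => hG ?_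
  have : IsMulCommutative G := ⟨⟨fun a b => commutatorElement_eq_one_iff_mul_comm.1
    (mem_bot.1 (h ▸ commutator_mem_commutator (mem_top a) (mem_top b)))⟩⟩
  exact IsSimpleGroup.prime_card (α := G)

theorem eq_oneIrr (hG : commutator G = ⊤) {χ : IrrCharacter G} (h : charDegree (χ : G → ℂ) = 1) :
    χ = oneIrr G := Subtype.ext (isIrr_eq_one_of_charKer_eq_top χ.2 (top_le_iff.1 (hG ▸
      commutator_le_charKer (irr_isChar χ) (by rw [← irr_degree_cast, h, Nat.cast_one]))))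

theorem sum_degree_sq_le (s : Finset (IrrCharacter G)) :
    ∑ χ ∈ s, charDegree (χ : G → ℂ) ^ 2 ≤ Nat.card G := by
  have := Fintype.ofFinite G
  have h := sum_irr_one_sq (G := G)
  simp only [← irr_degree_cast] at h
  have h' : ∑ χ : IrrCharacter G, charDegree (χ : G → ℂ) ^ 2 = Nat.card G := by exact_mod_cast h
  exact h' ▸ Finset.sum_le_sum_of_subset (Finset.subset_univ s)

theorem exists_chars [IsSimpleGroup G] (hG : Nat.card G = 7920) :
    ∃ (a b c d θ θ' : IrrCharacter G) (s : ℤ), [oneIrr G, a, b, c, d, θ, θ'].Nodup ∧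
      (∀ g, ¬ 11 ∣ orderOf g → θ.1 g = 1 - a.1 g - b.1 g + s * c.1 g + d.1 g) ∧ θ'.1 1 = θ.1 1 ∧
      a.1 1 = 10 ∧ b.1 1 = 10 ∧ (s = -1 ∧ c.1 1 = 10 ∧ d.1 1 = 45 ∧ θ.1 1 = 16 ∨
        s = 1 ∧ c.1 1 = 12 ∧ d.1 1 = 12 ∧ θ.1 1 = 5) := by
  classical
  have := Fintype.ofFinite G
  have hp : Nat.Prime 11 := by norm_num
  have := Fact.mk hp
  have hc := commutator_top (G := G) (by rw [hG]; norm_num)
  obtain ⟨M, hM⟩ := exists_isPModular hp
  obtain ⟨x, hx⟩ := exists_prime_orderOf_dvd_card' (G := G) 11 (by rw [hG]; norm_num)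
  obtain ⟨P, hP⟩ := (sylow_data (m := 720) hp hG (by norm_num) hx).1.exists_sylow_top
  obtain ⟨X, Y, hB, hXY, hX, hY, ε, δ, h1, hδ, h2, h3, h4⟩ := S4441.result 11 M hM (by norm_num) P
    (by rw [hP, Nat.card_zpowers, hx]) 5 (by rw [hP]; exact (cent_eleven hG hx).2)
  have h11 : ¬ 11 ∣ orderOf (1 : G) := by simp
  have hd : ∀ χ : IrrCharacter G, charDegree (χ : G → ℂ) ≤ 88 ∧ charDegree (χ : G → ℂ) ∣ 7920 := fun χ => by
    have h5 := sum_degree_sq_le {χ}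
    rw [Finset.sum_singleton, hG] at h5
    exact ⟨by nlinarith, hG ▸ irr_degree_dvd χ⟩
  have hone : oneIrr G ∈ X := by
    refine ((hB ▸ oneIrr_mem_principalBlock hM : oneIrr G ∈ X ∪ Y)).resolve_right fun h => ?_
    have h5 := h2 _ h
    rw [coe_oneIrr, charDegree_one_fun] at h5
    rcases hδ with rfl | rfl <;> exact absurd h5 (by decide)
  have hε1 : ε (oneIrr G) = 1 := by
    obtain ⟨h5, h6, -⟩ := h1 _ hone
    rw [coe_oneIrr, charDegree_one_fun] at h6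
    refine h5.resolve_right fun h => ?_
    rw [h] at h6
    exact absurd h6 (by decide)
  have hX' : ∀ χ ∈ X, χ ≠ oneIrr G → ε χ = -1 ∧ charDegree (χ : G → ℂ) = 10 ∨
      ε χ = 1 ∧ charDegree (χ : G → ℂ) = 12 ∨ ε χ = 1 ∧ charDegree (χ : G → ℂ) = 45 := fun χ hχ hne => by
    obtain ⟨h5, h6, -⟩ := h1 _ hχ
    exact degX_cases _ (hd χ).1 (hd χ).2 (fun h => hne (eq_oneIrr hc h)) _
      (by simpa using h5) h6
  obtain ⟨θ, θ', hne, rfl⟩ := Set.ncard_eq_two.1 hY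
  have hθ : δ = 1 ∧ charDegree (θ : G → ℂ) = 5 ∨ δ = 1 ∧ charDegree (θ : G → ℂ) = 16 ∨
      δ = 1 ∧ charDegree (θ : G → ℂ) = 60 ∨ δ = -1 ∧ charDegree (θ : G → ℂ) = 6 ∨
      δ = -1 ∧ charDegree (θ : G → ℂ) = 72 :=
    degY_cases _ (hd θ).1 (hd θ).2 _
      (by simpa using hδ) (h2 θ (by simp))
  have hXf := Set.toFinite X
  obtain ⟨a, b, c, d, hnd, hs, hab, hbc, hcd⟩ := exists_sorted_four (s := hXf.toFinset.erase (oneIrr G))
    (by rw [Finset.card_erase_of_mem (by simpa using hone), ← Set.ncard_eq_toFinset_card X hXf,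
      ← Nat.card_coe_set_eq, hX]) fun χ => charDegree (χ : G → ℂ)
  have hm : ∀ χ ∈ [a, b, c, d], χ ∈ X ∧ χ ≠ oneIrr G := fun χ hχ => by
    have : χ ∈ hXf.toFinset.erase (oneIrr G) := by rw [hs]; simpa using hχ
    simpa [and_comm] using this
  have hnd' : [oneIrr G, a, b, c, d, θ, θ'].Nodup := by
    have h5 : ∀ χ ∈ X, χ ≠ θ ∧ χ ≠ θ' := fun χ hχ =>
      ⟨fun h => Set.disjoint_left.1 hXY hχ (by simp [h]), fun h => Set.disjoint_left.1 hXY hχ (by simp [h])⟩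
    change (oneIrr G :: ([a, b, c, d] ++ [θ, θ'])).Nodup
    rw [List.nodup_cons, List.nodup_append, List.mem_append]
    refine ⟨fun h => h.elim (fun h => (hm _ h).2 rfl) (by simpa using h5 _ hone), hnd, by simpa using hne,
      fun u hu v hv => ?_⟩
    have := h5 u (hm u hu).1
    simp only [List.mem_cons, List.not_mem_nil, or_false] at hv
    rcases hv with rfl | rfl
    exacts [this.1, this.2]
  have hrel : ∀ g, ¬ 11 ∣ orderOf g → δ * θ.1 g =
      1 + ε a * a.1 g + ε b * b.1 g + ε c * c.1 g + ε d * d.1 g := fun g hg => by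
    rw [h4 θ (by simp) g hg, finsum_mem_eq_finite_toFinset_sum _ hXf,
      ← Finset.add_sum_erase _ _ (a := oneIrr G) (by simpa using hone), hs, hε1, coe_oneIrr,
      show ({a, b, c, d} : Finset _) = [a, b, c, d].toFinset by simp, List.sum_toFinset _ hnd]
    simp [add_assoc]
  have hθ' := h3 θ' (by simp) θ (by simp) 1 h11
  have h5 := sum_degree_sq_le [oneIrr G, a, b, c, d, θ, θ'].toFinset
  rw [List.sum_toFinset _ hnd', hG] at h5
  simp only [List.map_cons, List.map_nil, List.sum_cons, List.sum_nil, coe_oneIrr, charDegree_one_fun] at h5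
  rw [charDegree_of_eq (hθ'.trans (irr_degree_cast θ).symm)] at h5
  have h6 := hrel 1 h11
  simp only [← irr_degree_cast] at h6
  have h7 : δ * charDegree θ.1 = 1 + ε a * charDegree a.1 + ε b * charDegree b.1 + ε c * charDegree c.1 +
    ε d * charDegree d.1 := by exact_mod_cast h6
  have key : δ = 1 ∧ ε a = -1 ∧ ε b = -1 ∧ ε d = 1 ∧ charDegree a.1 = 10 ∧ charDegree b.1 = 10 ∧
      (ε c = -1 ∧ charDegree c.1 = 10 ∧ charDegree d.1 = 45 ∧ charDegree θ.1 = 16 ∨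
        ε c = 1 ∧ charDegree c.1 = 12 ∧ charDegree d.1 = 12 ∧ charDegree θ.1 = 5) := by
    have ha := hX' a (hm a (by simp)).1 (hm a (by simp)).2
    have hb := hX' b (hm b (by simp)).1 (hm b (by simp)).2
    have hc := hX' c (hm c (by simp)).1 (hm c (by simp)).2
    have hd := hX' d (hm d (by simp)).1 (hm d (by simp)).2
    generalize charDegree a.1 = na, charDegree b.1 = nb, charDegree c.1 = nc, charDegree d.1 = nd,
      charDegree θ.1 = n, ε a = ea, ε b = eb, ε c = ec, ε d = ed at ha hb hc hd hθ h5 h7 hab hbc hcd ⊢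
    clear * - ha hb hc hd hθ h5 h7 hab hbc hcd
    rcases ha with ⟨rfl, rfl⟩ | ⟨rfl, rfl⟩ | ⟨rfl, rfl⟩ <;> rcases hb with ⟨rfl, rfl⟩ | ⟨rfl, rfl⟩ | ⟨rfl, rfl⟩ <;>
      rcases hc with ⟨rfl, rfl⟩ | ⟨rfl, rfl⟩ | ⟨rfl, rfl⟩ <;> rcases hd with ⟨rfl, rfl⟩ | ⟨rfl, rfl⟩ | ⟨rfl, rfl⟩ <;>
      rcases hθ with ⟨rfl, rfl⟩ | ⟨rfl, rfl⟩ | ⟨rfl, rfl⟩ | ⟨rfl, rfl⟩ | ⟨rfl, rfl⟩ <;>
      revert h5 h7 hab hbc hcd <;> decide
  obtain ⟨rfl, e1, e2, e3, e4, e5, e6⟩ := key
  refine ⟨a, b, c, d, θ, θ', ε c, hnd', fun g hg => ?_, hθ', by rw [← irr_degree_cast, e4]; rfl,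
    by rw [← irr_degree_cast, e5]; rfl, ?_⟩
  · have := hrel g hg
    rw [e1, e2, e3] at this
    push_cast at this
    linear_combination this
  · simp only [← irr_degree_cast]
    rcases e6 with ⟨e6, e7, e8, e9⟩ | ⟨e6, e7, e8, e9⟩ <;> simp [e6, e7, e8, e9]

theorem not_dvd_mul [IsSimpleGroup G] (hG : Nat.card G = 7920) {s t : G} (hs : orderOf s = 2) (ht : orderOf t = 2) :
    ¬ 11 ∣ orderOf (s * t) := fun ⟨k, hk⟩ => by
  have h0 : k ≠ 0 := fun h => (orderOf_pos (s * t)).ne' (by rw [hk, h])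
  have h1 : orderOf ((s * t) ^ k) = 11 := by
    rw [orderOf_pow' _ h0, hk, Nat.gcd_eq_right (Dvd.intro_left _ rfl), Nat.mul_div_cancel _ (Nat.pos_of_ne_zero h0)]
  have s1 : s⁻¹ = s := inv_eq_of_mul_eq_one_right (by rw [← sq, ← hs, pow_orderOf_eq_one])
  have t1 : t⁻¹ = t := inv_eq_of_mul_eq_one_right (by rw [← sq, ← ht, pow_orderOf_eq_one])
  have h2 : t ∈ normalizer ((zpowers ((s * t) ^ k) : Subgroup G) : Set G) := mem_normalizer_fintype (by
    rintro _ ⟨j, rfl⟩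
    rw [← conj_zpow, ← conj_pow, show t * (s * t) * t⁻¹ = (s * t)⁻¹ by
      rw [mul_inv_rev, s1, ← mul_assoc, mul_inv_cancel_right, t1]]
    rw [inv_pow]
    exact zpow_mem (inv_mem (mem_zpowers _)) j)
  have h3 := Subgroup.orderOf_dvd_natCard _ h2
  rw [card_normalizer_eleven hG h1, ht] at h3
  norm_num at h3

theorem pair_eq [IsSimpleGroup G] (hG : Nat.card G = 7920) {a b c d θ : IrrCharacter G} {e : ℂ}
    (h : ∀ g, ¬ 11 ∣ orderOf g → θ.1 g = 1 - a.1 g - b.1 g + e * c.1 g + d.1 g) {s t : G} (hs : orderOf s = 2)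
    (ht : orderOf t = 2) : θ.1 s * θ.1 t / θ.1 1 = 1 - a.1 s * a.1 t / a.1 1 - b.1 s * b.1 t / b.1 1 +
      e * (c.1 s * c.1 t / c.1 1) + d.1 s * d.1 t / d.1 1 := by
  have := Fintype.ofFinite G
  have h1 := isIrr_sum_conj_mul θ.2 s t
  rw [Finset.sum_congr rfl fun g _ => h _ (not_dvd_mul hG ((MulAut.conj g).orderOf_eq s ▸ hs) ht)] at h1
  simp only [Finset.sum_add_distrib, Finset.sum_sub_distrib, ← Finset.mul_sum,
    isIrr_sum_conj_mul a.2, isIrr_sum_conj_mul b.2, isIrr_sum_conj_mul c.2, isIrr_sum_conj_mul d.2,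
    Finset.sum_const, Finset.card_univ, ← Nat.card_eq_fintype_card, hG] at h1
  simp only [mul_div_assoc, nsmul_eq_mul] at h1 ⊢
  push_cast at h1
  linear_combination (-1 / 7920) * h1

end Cfsg.Agent.Gl23
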