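import Mathlib
import Cfsg.Agent.Gl23.Ord2

/-!
Simple groups of order `7920`: values on involutions, the Sylow `5`-subgroups and the involution centralisers.
-/

set_option autoImplicit false

namespace Cfsg.Agent.Gl23

open Cfsg.Agent.Char Cfsg.Agent.Core Cfsg.Agent.Block Subgroup

set_option synthInstance.maxSize 100000 in
set_option synthInstance.maxHeartbeats 400000 in
theorem num_two : ∀ a ≤ 5, ∀ b ≤ 5, ∀ c ≤ 5, ∀ d ≤ 22, ∀ e ≤ 8, a + b + c + e = d →
    45 * (16 - 4 * (e : ℕ) : ℤ) ^ 2 = 720 - 72 * ((10 - 4 * (a : ℕ) : ℤ) ^ 2 + (10 - 4 * (b : ℕ) : ℤ) ^ 2 +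
      (10 - 4 * (c : ℕ) : ℤ) ^ 2) + 16 * (45 - 4 * (d : ℕ) : ℤ) ^ 2 →
    a = 0 ∨ d = 12 ∧ e = 4 ∧ (a = 2 ∧ b = 3 ∧ c = 3 ∨ a = 3 ∧ b = 2 ∧ c = 3 ∨ a = 3 ∧ b = 3 ∧ c = 2) := by
  decide +kernel

set_option synthInstance.maxSize 100000 in
set_option synthInstance.maxHeartbeats 400000 in
theorem num_one : ∀ a ≤ 5, ∀ b ≤ 5, ∀ c ≤ 6, ∀ d ≤ 6, ∀ e ≤ 2, a + b + e = c + d →
    12 * (5 - 4 * (e : ℕ) : ℤ) ^ 2 = 60 - 6 * ((10 - 4 * (a : ℕ) : ℤ) ^ 2 + (10 - 4 * (b : ℕ) : ℤ) ^ 2) +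
      5 * ((12 - 4 * (c : ℕ) : ℤ) ^ 2 + (12 - 4 * (d : ℕ) : ℤ) ^ 2) →
    a = 0 ∨ c = 3 ∧ d = 3 ∧ e = 1 ∧ (a = 2 ∧ b = 3 ∨ a = 3 ∧ b = 2) := by
  decide +kernel

variable {G : Type*} [Group G] [Finite G] [IsSimpleGroup G]

theorem ne_degree {χ : IrrCharacter G} (h : χ ≠ oneIrr G) {t : G} (ht : t ≠ 1) : χ.1 t ≠ χ.1 1 := fun e =>
  ht (mem_bot.1 (charKer_eq_bot_of_simple χ.2 (fun e => h (Subtype.ext e)) ▸ (mem_charKer_iff (irr_isChar χ)).2 e))

theorem exists_ten (hG : Nat.card G = 7920) : ∃ χ : IrrCharacter G, χ.1 1 = 10 ∧ (∀ t, orderOf t = 2 → χ.1 t = -2) ∧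
    ((∃ ψ : IrrCharacter G, ψ.1 1 = 45 ∧ ∀ t, orderOf t = 2 → ψ.1 t = -3) ∨
      ∃ c d : IrrCharacter G, [oneIrr G, c, d].Nodup ∧ c.1 1 = 12 ∧ d.1 1 = 12) := by
  have hc := commutator_top (G := G) (by rw [hG]; norm_num)
  obtain ⟨a, b, c, d, θ, θ', s, hnd, hrel, -, ha, hb, h⟩ := exists_chars hG
  have ha1 : a ≠ oneIrr G := fun h => by simp [h] at hnd
  obtain ⟨s₀, hs₀⟩ := exists_prime_orderOf_dvd_card' (G := G) (hp := ⟨Nat.prime_two⟩) 2 (by rw [hG]; norm_num)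
  rcases h with ⟨rfl, h1, h2, h3⟩ | ⟨rfl, h1, h2, h3⟩
  · have key : ∀ t, orderOf t = 2 → d.1 t = -3 ∧ θ.1 t = 0 ∧ (a.1 t = 2 ∧ b.1 t = -2 ∧ c.1 t = -2 ∨
        a.1 t = -2 ∧ b.1 t = 2 ∧ c.1 t = -2 ∨ a.1 t = -2 ∧ b.1 t = -2 ∧ c.1 t = 2) := fun t ht => by
      have t2 : t ^ 2 = 1 := ht ▸ pow_orderOf_eq_one t
      obtain ⟨ka, a1, a2⟩ := inv_val hc (irr_isChar a) (n := 10) ha t2
      obtain ⟨kb, b1, b2⟩ := inv_val hc (irr_isChar b) (n := 10) hb t2
      obtain ⟨kc, c1, c2⟩ := inv_val hc (irr_isChar c) (n := 10) h1 t2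
      obtain ⟨kd, d1, d2⟩ := inv_val hc (irr_isChar d) (n := 45) h2 t2
      obtain ⟨ke, e1, e2⟩ := inv_val hc (irr_isChar θ) (n := 16) h3 t2
      have l1 := hrel t (by rw [ht]; norm_num)
      have l2 := pair_eq hG hrel ht ht
      rw [a2, b2, c2, d2, e2] at l1 l2
      rw [ha, hb, h1, h2, h3] at l2
      rcases num_two ka (by omega) kb (by omega) kc (by omega) kd (by omega) ke (by omega)
        (by
          have : ((ka + kb + kc + ke : ℕ) : ℂ) = kd := by push_cast at l1 ⊢; linear_combination (-1 / 4) * l1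
          exact_mod_cast this)
        (by
          apply Int.cast_injective (α := ℂ)
          push_cast at l2 ⊢
          linear_combination 720 * l2) with rfl | ⟨rfl, rfl, h⟩
      · exact absurd (a2.trans (by rw [ha]; norm_num)) (ne_degree ha1 fun h => by simp [h] at ht)
      · rw [a2, b2, c2, d2, e2]
        rcases h with ⟨rfl, rfl, rfl⟩ | ⟨rfl, rfl, rfl⟩ | ⟨rfl, rfl, rfl⟩ <;> norm_num
    have key2 : ∀ t, orderOf t = 2 → a.1 t = a.1 s₀ ∧ b.1 t = b.1 s₀ := fun t ht => by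
      have l2 := pair_eq hG hrel hs₀ ht
      obtain ⟨p1, p2, p3⟩ := key s₀ hs₀
      obtain ⟨q1, q2, q3⟩ := key t ht
      rw [ha, hb, h1, h2, h3, p1, p2, q1, q2] at l2
      rcases p3 with ⟨p3, p4, p5⟩ | ⟨p3, p4, p5⟩ | ⟨p3, p4, p5⟩ <;>
        rcases q3 with ⟨q3, q4, q5⟩ | ⟨q3, q4, q5⟩ | ⟨q3, q4, q5⟩ <;>
        rw [p3, p4, p5, q3, q4, q5] at l2 <;> first | (norm_num at l2; done) | simp [p3, p4, q3, q4]
    have h4 : ∃ ψ : IrrCharacter G, ψ.1 1 = 45 ∧ ∀ t, orderOf t = 2 → ψ.1 t = -3 := ⟨d, h2, fun t ht => (key t ht).1⟩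
    rcases (key s₀ hs₀).2.2 with ⟨-, p, -⟩ | ⟨p, -⟩ | ⟨p, -⟩
    · exact ⟨b, hb, fun t ht => (key2 t ht).2.trans p, Or.inl h4⟩
    · exact ⟨a, ha, fun t ht => (key2 t ht).1.trans p, Or.inl h4⟩
    · exact ⟨a, ha, fun t ht => (key2 t ht).1.trans p, Or.inl h4⟩
  · have key : ∀ t, orderOf t = 2 → c.1 t = 0 ∧ d.1 t = 0 ∧ θ.1 t = 1 ∧ (a.1 t = 2 ∧ b.1 t = -2 ∨
        a.1 t = -2 ∧ b.1 t = 2) := fun t ht => by
      have t2 : t ^ 2 = 1 := ht ▸ pow_orderOf_eq_one t
      obtain ⟨ka, a1, a2⟩ := inv_val hc (irr_isChar a) (n := 10) ha t2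
      obtain ⟨kb, b1, b2⟩ := inv_val hc (irr_isChar b) (n := 10) hb t2
      obtain ⟨kc, c1, c2⟩ := inv_val hc (irr_isChar c) (n := 12) h1 t2
      obtain ⟨kd, d1, d2⟩ := inv_val hc (irr_isChar d) (n := 12) h2 t2
      obtain ⟨ke, e1, e2⟩ := inv_val hc (irr_isChar θ) (n := 5) h3 t2
      have l1 := hrel t (by rw [ht]; norm_num)
      have l2 := pair_eq hG hrel ht ht
      rw [a2, b2, c2, d2, e2] at l1 l2
      rw [ha, hb, h1, h2, h3] at l2
      rcases num_one ka (by omega) kb (by omega) kc (by omega) kd (by omega) ke (by omega)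
        (by
          have : ((ka + kb + ke : ℕ) : ℂ) = (kc + kd : ℕ) := by push_cast at l1 ⊢; linear_combination (-1 / 4) * l1
          exact_mod_cast this)
        (by
          apply Int.cast_injective (α := ℂ)
          push_cast at l2 ⊢
          linear_combination 60 * l2) with rfl | ⟨rfl, rfl, rfl, h⟩
      · exact absurd (a2.trans (by rw [ha]; norm_num)) (ne_degree ha1 fun h => by simp [h] at ht)
      · rw [a2, b2, c2, d2, e2]
        rcases h with ⟨rfl, rfl⟩ | ⟨rfl, rfl⟩ <;> norm_num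
    have key2 : ∀ t, orderOf t = 2 → a.1 t = a.1 s₀ ∧ b.1 t = b.1 s₀ := fun t ht => by
      have l2 := pair_eq hG hrel hs₀ ht
      obtain ⟨p0, p1, p2, p3⟩ := key s₀ hs₀
      obtain ⟨q0, q1, q2, q3⟩ := key t ht
      rw [ha, hb, h1, h2, h3, p0, p1, p2, q0, q1, q2] at l2
      rcases p3 with ⟨p3, p4⟩ | ⟨p3, p4⟩ <;> rcases q3 with ⟨q3, q4⟩ | ⟨q3, q4⟩ <;>
        rw [p3, p4, q3, q4] at l2 <;> first | (norm_num at l2; done) | simp [p3, p4, q3, q4]
    have h4 : ∃ c d : IrrCharacter G, [oneIrr G, c, d].Nodup ∧ c.1 1 = 12 ∧ d.1 1 = 12 :=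
      ⟨c, d, hnd.sublist (by simp), h1, h2⟩
    rcases (key s₀ hs₀).2.2.2 with ⟨-, p⟩ | ⟨p, -⟩
    · exact ⟨b, hb, fun t ht => (key2 t ht).2.trans p, Or.inr h4⟩
    · exact ⟨a, ha, fun t ht => (key2 t ht).1.trans p, Or.inr h4⟩

theorem not_comm_eleven (hG : Nat.card G = 7920) {x g : G} (hx : orderOf x = 11) (hg : g * x = x * g) :
    orderOf g ∣ 11 := by
  rw [← (cent_eleven hG hx).1]
  refine Subgroup.orderOf_dvd_natCard _ ?_
  rintro _ ⟨k, rfl⟩
  exact ((show Commute g x from hg).zpow_right k).symm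

theorem not_comm_five (hG : Nat.card G = 7920) {y t : G} (hy : orderOf y = 5) (ht : orderOf t = 2) :
    t * y ≠ y * t := fun h => by
  obtain ⟨χ, h1, h2, -⟩ := exists_ten hG
  have := dvd_of_vanish (irr_isChar χ) Nat.prime_five (by norm_num)
    (vanish_of_dvd (k := 1) (n := 10) Nat.prime_five (by rw [hG]; norm_num) h1 (by norm_num)) ht (R := zpowers y)
    (isPGroup_zpowers_of_pow (n := 1) (by rw [pow_one, ← hy, pow_orderOf_eq_one])) (by
      rintro _ ⟨k, rfl⟩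
      exact (show Commute t y from h).zpow_right k) (m := 8) (by rw [h1, h2 t ht]; norm_num)
  rw [Nat.card_zpowers, hy] at this
  norm_num at this

theorem cent_five (hG : Nat.card G = 7920) {y : G} (hy : orderOf y = 5) :
    Nat.card (centralizer ((zpowers y : Subgroup G) : Set G)) = 5 ∧
    (centralizer ((zpowers y : Subgroup G) : Set G)).relIndex (normalizer ((zpowers y : Subgroup G) : Set G)) = 4 := by
  have hp := Nat.prime_five
  obtain ⟨hS, h1, h2⟩ := sylow_data (m := 1584) hp hG (by norm_num) hy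
  have h3 := (normalizer ((zpowers y : Subgroup G) : Set G)).card_mul_index
  have h4 := card_mul_relIndex (centralizer_le_normalizer ((zpowers y : Subgroup G) : Set G))
  have h5 := relIndex_dvd hp hy
  have h6 := burnside_ne hp hy (by omega) hS
  have h7 : ∀ q : ℕ, q.Prime → q ∣ Nat.card (centralizer ((zpowers y : Subgroup G) : Set G)) →
      ∃ t, orderOf t = q ∧ t * y = y * t := fun q hq h => by
    obtain ⟨t, ht⟩ := exists_prime_orderOf_dvd_card' (hp := ⟨hq⟩) q h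
    exact ⟨t, by rw [orderOf_coe, ht], (t.2 y (mem_zpowers y)).symm⟩
  have h8 : ¬ 2 ∣ Nat.card (centralizer ((zpowers y : Subgroup G) : Set G)) := fun h => by
    obtain ⟨t, ht, h⟩ := h7 2 Nat.prime_two h
    exact not_comm_five hG hy ht h
  have h9 : ¬ 11 ∣ Nat.card (centralizer ((zpowers y : Subgroup G) : Set G)) := fun h => by
    obtain ⟨t, ht, h⟩ := h7 11 (by norm_num) h
    have := not_comm_eleven hG ht h.symm
    rw [hy] at this
    norm_num at this
  have h10 : Nat.card (centralizer ((zpowers y : Subgroup G) : Set G)) ∣ 45 := by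
    have h11 : Nat.card (centralizer ((zpowers y : Subgroup G) : Set G)) ∣ 2 ^ 4 * (11 * 45) :=
      (card_subgroup_dvd_card _).trans (by rw [hG]; rfl)
    exact ((Nat.Prime.coprime_iff_not_dvd (by norm_num)).2 h9).symm.dvd_of_dvd_mul_left
      ((((Nat.Prime.coprime_iff_not_dvd Nat.prime_two).2 h8).symm.pow_right 4).dvd_of_dvd_mul_left h11)
  rw [← h4, hG] at h3
  generalize Nat.card (centralizer ((zpowers y : Subgroup G) : Set G)) = c at h3 h10 ⊢
  generalize (centralizer ((zpowers y : Subgroup G) : Set G)).relIndex _ = e at h3 h5 h6 ⊢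
  generalize (normalizer ((zpowers y : Subgroup G) : Set G)).index = n at h1 h3
  have := Nat.le_of_dvd (by norm_num) h10
  have := Nat.le_of_dvd (by norm_num) h5
  interval_cases e <;> interval_cases c <;> omega

theorem exists_fortyfive (hG : Nat.card G = 7920) :
    ∃ ψ : IrrCharacter G, ψ.1 1 = 45 ∧ ∀ t, orderOf t = 2 → ψ.1 t = -3 := by
  classical
  obtain ⟨-, -, -, h | ⟨c, d, hnd, hc, hd⟩⟩ := exists_ten hG
  · exact h
  exfalso
  have := Fintype.ofFinite G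
  have hp := Nat.prime_five
  obtain ⟨y, hy⟩ := exists_prime_orderOf_dvd_card' (G := G) (hp := ⟨hp⟩) 5 (by rw [hG]; norm_num)
  obtain ⟨h1, h2⟩ := cent_five hG hy
  have h3 : ∀ k : ℕ, k.Coprime (orderOf y) → IsConj y (y ^ k) := fun k hk => by
    have : IsCyclic (zpowers y) := inferInstance
    have h4 : (PGrp.actHom (le_refl (normalizer ((zpowers y : Subgroup G) : Set G)))).range = ⊤ := by
      refine eq_top_of_card_eq _ ?_
      rw [PGrp.card_range_actHom, h2, IsCyclic.card_mulAut, Nat.card_zpowers, hy, Nat.totient_prime hp]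
    let _ := IsCyclic.commGroup (α := zpowers y)
    obtain ⟨g, hg⟩ : MulEquiv.ofBijective (powMonoidHom k : zpowers y →* zpowers y)
        (Nat.Coprime.pow_left_bijective (by rwa [Nat.card_zpowers, Nat.coprime_comm])) ∈
        (PGrp.actHom (le_refl (normalizer ((zpowers y : Subgroup G) : Set G)))).range := h4 ▸ mem_top _
    exact isConj_iff.2 ⟨g, congrArg Subtype.val (MulEquiv.congr_fun hg ⟨y, mem_zpowers y⟩)⟩
  obtain ⟨M, hM⟩ := exists_isPModular hp
  have h4 : ∀ χ : IrrCharacter G, χ.1 1 = 12 → 4 ≤ ‖χ.1 y‖ ^ 2 := fun χ hχ => by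
    obtain ⟨n, hn⟩ := Galois.exists_int_of_forall_pow (isChar_isGenChar (irr_isChar χ)) fun k hk =>
      (classFun_isConj (irr_classFun χ) (h3 k hk)).symm
    have h5 := int_modEq_of_val hM (irr_isChar χ) ⟨1, by rw [hy, pow_one]⟩ hn
    rw [charDegree_of_eq (n := 12) hχ, Int.ModEq] at h5
    rw [hn, Complex.norm_intCast, sq_abs]
    have : 4 ≤ n ^ 2 := by
      rcases (by omega : n ≤ -2 ∨ 2 ≤ n) with h | h <;> nlinarith
    exact_mod_cast this
  have h5 := sum_irr_norm_sq y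
  have h6 := Finset.sum_le_sum_of_subset_of_nonneg (f := fun χ : IrrCharacter G => ‖χ.1 y‖ ^ 2)
    (Finset.subset_univ [oneIrr G, c, d].toFinset) fun _ _ _ => sq_nonneg _
  rw [List.sum_toFinset _ hnd, h5, ← centralizer_closure, ← zpowers_eq_closure, h1] at h6
  simp only [List.map_cons, List.map_nil, List.sum_cons, List.sum_nil, coe_oneIrr] at h6
  have := h4 c hc
  have := h4 d hd
  norm_num at h6
  linarith

theorem card_cent_dvd (hG : Nat.card G = 7920) {t : G} (ht : orderOf t = 2) :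
    Nat.card (centralizer ({t} : Set G)) ∣ 48 := by
  have h7 : ∀ q : ℕ, q.Prime → q ∣ Nat.card (centralizer ({t} : Set G)) →
      ∃ y, orderOf y = q ∧ t * y = y * t := fun q hq h => by
    obtain ⟨y, hy⟩ := exists_prime_orderOf_dvd_card' (hp := ⟨hq⟩) q h
    exact ⟨y, by rw [orderOf_coe, hy], (mem_cent_iff.1 y.2).symm⟩
  have h8 : ¬ 5 ∣ Nat.card (centralizer ({t} : Set G)) := fun h => by
    obtain ⟨y, hy, h⟩ := h7 5 Nat.prime_five h
    exact not_comm_five hG hy ht h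
  have h9 : ¬ 11 ∣ Nat.card (centralizer ({t} : Set G)) := fun h => by
    obtain ⟨y, hy, h⟩ := h7 11 (by norm_num) h
    have := not_comm_eleven hG hy h
    rw [ht] at this
    norm_num at this
  have h10 : ¬ 3 ^ 2 ∣ Nat.card (centralizer ({t} : Set G)) := fun h => by
    have := Fact.mk Nat.prime_three
    obtain ⟨R, hR⟩ := Sylow.exists_subgroup_card_pow_prime 3 h
    obtain ⟨ψ, h1, h2⟩ := exists_fortyfive hG
    have := dvd_of_vanish (irr_isChar ψ) Nat.prime_three (by norm_num)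
      (vanish_of_dvd (k := 2) (n := 45) Nat.prime_three (by rw [hG]; norm_num) h1 (by norm_num)) ht
      (R := R.map (Subgroup.subtype _)) ((IsPGroup.of_card hR).map _) (by
        rintro _ ⟨r, -, rfl⟩
        exact (mem_cent_iff.1 r.2).symm) (m := 42) (by rw [h1, h2 t ht]; norm_num)
    rw [card_map_of_injective (subtype_injective _), hR] at this
    norm_num at this
  have h11 : Nat.card (centralizer ({t} : Set G)) ∣ 5 * (11 * 144) :=
    (card_subgroup_dvd_card _).trans (by rw [hG])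
  have h12 := ((Nat.Prime.coprime_iff_not_dvd (by norm_num)).2 h9).symm.dvd_of_dvd_mul_left
    (((Nat.Prime.coprime_iff_not_dvd Nat.prime_five).2 h8).symm.dvd_of_dvd_mul_left h11)
  exact (by decide +kernel : ∀ n ≤ 144, n ∣ 144 → ¬ 3 ^ 2 ∣ n → n ∣ 48) _ (Nat.le_of_dvd (by norm_num) h12) h12 h10

end Cfsg.Agent.Gl23
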