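import Mathlib
import Cfsg.Agent.Gl23.Main
import Cfsg.Agent.Inv.QDFus

/-!
Semidihedral Sylow `2`-subgroups of order `16`: recognising the centraliser `GL₂(3)`.
-/

set_option autoImplicit false

namespace Cfsg.Agent.Gl23

open Cfsg.Agent.Comp Cfsg.Agent.Core Subgroup

variable {G : Type*} [Group G]

/-- the letters in terms of an element of order four -/
def lt (i u x : G) : ℕ → G
  | 0 => i * i
  | 1 => u
  | 2 => u * i
  | 3 => x
  | 4 => x⁻¹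
  | _ + 5 => 1

theorem sat_lt {i u x : G} (hi : i * i * (i * i) = 1) (hu : u * u = 1) (hx : x ^ 3 = 1)
    (hux : u * x * u⁻¹ = x⁻¹) (hui : u * i * u⁻¹ = i⁻¹) (hzx : x * (i * i) * x⁻¹ = i * i)
    (hb : x * (x * i * x⁻¹) * x⁻¹ = x * i * x⁻¹ * i) : Sat (lt i u x) RC := by
  have u1 : u⁻¹ = u := inv_eq_of_mul_eq_one_right hu
  have z1 : (i * i)⁻¹ = i * i := inv_eq_of_mul_eq_one_right hi
  have huz : u * (i * i) * u⁻¹ = i * i := by rw [← conj_mul, hui, ← mul_inv_rev, z1]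
  intro w hw
  simp only [RC, List.mem_cons, List.not_mem_nil, or_false] at hw
  rcases hw with rfl | rfl | rfl | rfl | rfl | rfl | rfl | rfl | rfl | rfl | rfl | rfl <;>
    simp only [ev_cons, ev_nil, lt, mul_one]
  · exact hi
  · exact hu
  · calc _ = u * i * u⁻¹ * i := by rw [u1]; group
      _ = 1 := by rw [hui, inv_mul_cancel]
  · exact mul_inv_cancel x
  · exact inv_mul_cancel x
  · rw [← hx, pow_three]
  · calc _ = i * i * (x * (i * i) * x⁻¹) := by group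
      _ = 1 := by rw [hzx, hi]
  · calc _ = i * i * ((u * (i * i) * u⁻¹) * (u * i * u⁻¹) * (u * u) * i) := by group
      _ = 1 := by rw [huz, hui, hu, mul_one, inv_mul_cancel_right, hi]
  · calc _ = i * i * ((u * (i * i) * u⁻¹) * (u * u)) := by group
      _ = 1 := by rw [huz, hu, mul_one, hi]
  · calc _ = (u * x * u⁻¹) * (u * u) * x := by group
      _ = 1 := by rw [hux, hu]; group
  · calc _ = (u * u) * i * (u * u) * i * (i * i) := by group
      _ = 1 := by rw [hu]; simpa [mul_assoc] using hi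
  · calc _ = x * (u * i * u⁻¹) * (u * x * u⁻¹)⁻¹ * (u * u) * i * x * (u * i * u⁻¹) * (u * u) := by group
      _ = (x * i * x⁻¹)⁻¹ * (x * (x * i * x⁻¹) * x⁻¹) * x ^ 3 * i⁻¹ := by rw [hui, hux, hu]; group
      _ = 1 := by rw [hb, hx]; group

section q8

variable {Q : Subgroup G} (e : Q ≃* QuaternionGroup 2)
include e

theorem q8_f1 {a b : G} (ha : a ∈ Q) (hb : b ∈ Q) (h : a * b ≠ b * a) : a * b * a = b ∧ a * a = b * b := by
  have := (by decide : ∀ a b : QuaternionGroup 2, a * b ≠ b * a → a * b * a = b ∧ a * a = b * b) (e ⟨a, ha⟩)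
    (e ⟨b, hb⟩)
  simp only [← map_mul, ne_eq, e.injective.eq_iff, Subtype.ext_iff, coe_mul] at this
  exact this h

theorem q8_f2 {a b c : G} (ha : a ∈ Q) (hb : b ∈ Q) (hc : c ∈ Q) (h1 : a * b ≠ b * a) (h2 : a * c ≠ c * a)
    (h3 : b * c ≠ c * b) : c = a * b ∨ c = b * a := by
  have := (by decide +kernel : ∀ a b c : QuaternionGroup 2, a * b ≠ b * a → a * c ≠ c * a → b * c ≠ c * b →
    c = a * b ∨ c = b * a) (e ⟨a, ha⟩) (e ⟨b, hb⟩) (e ⟨c, hc⟩)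
  simp only [← map_mul, ne_eq, e.injective.eq_iff, Subtype.ext_iff, coe_mul] at this
  exact this h1 h2 h3

set_option synthInstance.maxSize 1024 in
theorem q8_f3 {a b c d : G} (ha : a ∈ Q) (hb : b ∈ Q) (hc : c ∈ Q) (hd : d ∈ Q) (h1 : a * b ≠ b * a)
    (h2 : a * c ≠ c * a) (h3 : b * c ≠ c * b) (h4 : a * d ≠ d * a) : d = b ∨ d = b⁻¹ ∨ d = c ∨ d = c⁻¹ := by
  have := (by decide +kernel : ∀ a b c d : QuaternionGroup 2, a * b ≠ b * a → a * c ≠ c * a → b * c ≠ c * b →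
    a * d ≠ d * a → d = b ∨ d = b⁻¹ ∨ d = c ∨ d = c⁻¹) (e ⟨a, ha⟩) (e ⟨b, hb⟩) (e ⟨c, hc⟩) (e ⟨d, hd⟩)
  simp only [← map_mul, ← map_inv, ne_eq, e.injective.eq_iff, Subtype.ext_iff, coe_mul, coe_inv] at this
  exact this h1 h2 h3 h4

omit e in
theorem nc_conj {a b : G} (h : a * b ≠ b * a) (g : G) :
    g * a * g⁻¹ * (g * b * g⁻¹) ≠ g * b * g⁻¹ * (g * a * g⁻¹) := by
  rwa [conj_mul, conj_mul, ne_eq, mul_left_inj, mul_right_inj]

omit e in
theorem nc_inv {a b : G} (h : a * b ≠ b * a) : a⁻¹ * b ≠ b * a⁻¹ := fun h' =>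
  h (by simpa using (show Commute a⁻¹ b from h').inv_left.eq)

theorem q8_swap {u i j : G} (hu : u ∈ normalizer (Q : Set G)) (huu : u * u = 1) (hi : i ∈ Q) (hj : j ∈ Q)
    (hui : u * i * u⁻¹ = i⁻¹) (hij : i * j ≠ j * i) (hj' : j * (u * j * u⁻¹) ≠ u * j * u⁻¹ * j) {q : G}
    (hq : q ∈ Q) (hiq : i * q ≠ q * i) :
    q * (u * q * u⁻¹) ≠ u * q * u⁻¹ * q ∧ i * (u * q * u⁻¹) ≠ u * q * u⁻¹ * i := by
  have h1 : ∀ {q}, i * q ≠ q * i → i * (u * q * u⁻¹) ≠ u * q * u⁻¹ * i := fun h => by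
    simpa [hui] using nc_inv (nc_conj h u)
  have h2 : u * (u * j * u⁻¹) * u⁻¹ = j := by
    calc _ = (u * u) * j * (u * u)⁻¹ := by group
      _ = j := by rw [huu]; group
  refine ⟨?_, h1 hiq⟩
  rcases q8_f3 e hi hj ((mem_normalizer_iff.1 hu j).1 hj) hq hij (h1 hij) hj' hiq with rfl | rfl | rfl | rfl
  · exact hj'
  · rw [← conj_inv]; exact (nc_inv (nc_inv hj').symm).symm
  · rw [h2]; exact hj'.symm
  · rw [← conj_inv (a := u * j * u⁻¹), h2]; exact (nc_inv (nc_inv hj'.symm).symm).symm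

theorem q8_exists_w {u g i j : G} (hu : u ∈ normalizer (Q : Set G)) (hg : g ∈ normalizer (Q : Set G))
    (huu : u * u = 1) (hi : i ∈ Q) (hj : j ∈ Q) (hui : u * i * u⁻¹ = i⁻¹) (hij : i * j ≠ j * i)
    (hj' : j * (u * j * u⁻¹) ≠ u * j * u⁻¹ * j) (hgi : g * i * g⁻¹ * i ≠ i * (g * i * g⁻¹)) :
    ∃ w, u * w * u⁻¹ = w⁻¹ ∧ w * (i * i) * w⁻¹ = i * i ∧ w * (w * i * w⁻¹) * w⁻¹ = w * i * w⁻¹ * i ∧
      w ^ 3 * i = i * w ^ 3 := by
  have m : ∀ {h q}, h ∈ normalizer (Q : Set G) → q ∈ Q → h * q * h⁻¹ ∈ Q := fun hh hq =>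
    (mem_normalizer_iff.1 hh _).1 hq
  have u1 : u⁻¹ = u := inv_eq_of_mul_eq_one_right huu
  obtain ⟨v, hv⟩ : ∃ v, v = g * u * g⁻¹ := ⟨_, rfl⟩
  have hvN : v ∈ normalizer (Q : Set G) := hv ▸ mul_mem (mul_mem hg hu) (inv_mem hg)
  have hvv : v * v = 1 := by rw [hv, conj_mul, huu]; group
  have v1 : v⁻¹ = v := inv_eq_of_mul_eq_one_right hvv
  have hvi : v * (g * i * g⁻¹) * v⁻¹ = (g * i * g⁻¹)⁻¹ := by
    rw [conj_inv, ← hui, hv]; group
  obtain ⟨h1, h2⟩ := q8_swap e hvN hvv (m hg hi) (m hg hj) hvi (nc_conj hij g) (by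
    rw [show v * (g * j * g⁻¹) * v⁻¹ = g * (u * j * u⁻¹) * g⁻¹ by rw [hv]; group]
    exact nc_conj hj' g) hi hgi
  obtain ⟨h3, h4⟩ := q8_swap e hu huu hi hj hui hij hj' (m hvN hi) h1
  obtain ⟨a, ha⟩ : ∃ a, a = u * (v * i * v⁻¹) * u⁻¹ := ⟨_, rfl⟩
  have haQ : a ∈ Q := ha ▸ m hu (m hvN hi)
  rw [← ha] at h3 h4
  have h5 : v * a * v⁻¹ = a⁻¹ := by
    rcases q8_f3 e (m hvN hi) hi (m hg hi) haQ h1.symm h2.symm hgi.symm h3 with h | h | h | h
    · exact absurd (by rw [h]) h4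
    · exact absurd (by rw [h]; group) h4
    · rw [h, hvi]
    · rw [h, ← conj_inv, hvi]
  obtain ⟨h6, h7⟩ := q8_swap e hu huu hi hj hui hij hj' haQ h4
  have e1 : u * v * i * (u * v)⁻¹ = a := by rw [ha]; group
  have e2 : u * v * a * (u * v)⁻¹ = (u * a * u⁻¹)⁻¹ := by rw [conj_inv, ← h5]; group
  have e3 : u * (u * v) * u⁻¹ = (u * v)⁻¹ := by rw [← mul_assoc, huu, mul_inv_rev, v1, one_mul]
  have e4 : u * v * (i * i) * (u * v)⁻¹ = i * i := by rw [← conj_mul, e1, (q8_f1 e hi haQ h4).2]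
  have e5 := (q8_f1 e haQ hi h4.symm).1
  have key : ∀ w b : G, w * i * w⁻¹ = a → w * a * w⁻¹ = b → w * b * w⁻¹ = i → w ^ 3 * i = i * w ^ 3 :=
    fun w b a1 a2 a3 => by
      rw [← a2, ← a1] at a3
      rw [← mul_inv_eq_iff_eq_mul, ← a3]
      conv_lhs => rw [a3]
      simp [pow_succ, mul_assoc]
  rcases q8_f2 e hi haQ (inv_mem (m hu haQ)) h4 (nc_inv h7.symm).symm (nc_inv h6.symm).symm with h | h
  · have e6 : u * v * (i * a) * (u * v)⁻¹ = i := by rw [← conj_mul, e1, e2, h, ← mul_assoc, e5]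
    have e7 : (u * v)⁻¹ * i * (u * v)⁻¹⁻¹ = i * a := by
      conv_lhs => rw [← e6]
      group
    refine ⟨(u * v)⁻¹, by rw [← conj_inv, e3], ?_, ?_, ?_⟩
    · conv_lhs => rw [← e4]
      group
    · rw [e7, ← conj_mul, e7]
      congr 1
      rw [← e1]; group
    · have := key _ _ e1 (e2.trans h) e6
      rw [inv_pow]
      exact (show Commute _ _ from this).inv_left
  · have e6 : u * v * (a * i) * (u * v)⁻¹ = i := by rw [← conj_mul, e1, e2, h, e5]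
    exact ⟨u * v, e3, e4, by rw [e1, e2, h], key _ _ e1 (e2.trans h) e6⟩

end q8

theorem cent_equiv_of_qd [Finite G] {S : Sylow 2 G} {x y : G} (h : Inv.QD (S : Subgroup G) x y 0)
    (hO : pResidual 2 G = ⊤) (hC : Nat.card (centralizer ({x ^ 4} : Set G)) ∣ 48) :
    Nonempty (centralizer ({x ^ 4} : Set G) ≃* M) := by
  have h' := h.change_xy
  obtain ⟨e⟩ := h'.q8 h.xy
  set Q := closure ({x ^ 2 ^ 1, x * y} : Set G) with hQ
  have hQS : Q ≤ S := h'.q8_le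
  have hi : x ^ 2 ^ 1 ∈ Q := subset_closure (by simp)
  have hj : x * y ∈ Q := subset_closure (by simp)
  have hO' : ¬ Inv.OddC Q := fun h1 => by
    have h2 := (h.of_oddC_q8 e hQS h1).2
    rw [hO, inf_top_eq] at h2
    exact h.xy_not_mem_max h.y_sq_mem (h2 h.xy_mem)
  obtain ⟨g, hg, hodd, hgC⟩ : ∃ g ∈ normalizer (Q : Set G), Odd (orderOf g) ∧ g ∉ centralizer (Q : Set G) := by
    by_contra! h1
    exact hO' h1
  have h1 : zpowers x ⊓ Q = zpowers (x ^ 2 ^ 1) := by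
    have h2 := h'.card_of_le hQS hj
    rw [Inv.q8_card e] at h2
    exact Inv.eq_zpowers_of_card inf_le_left (Inv.MC.z_memX x 1) (by rw [h.w_four]; omega)
  have h2 : g * x ^ 2 ^ 1 * g⁻¹ ∉ zpowers x := fun h2 => hgC (h.centralizes hQS hg hodd h1 h2)
  have h3 := (mem_normalizer_iff.1 hg _).1 hi
  have h4 : ∀ t ∈ (S : Subgroup G), t ∉ zpowers x → x ^ 2 ^ 1 * t ≠ t * x ^ 2 ^ 1 := fun t ht ht' h4 => by
    have h5 := (h.change ht ht').inverts_w
    rw [← h4, mul_inv_cancel_right, eq_inv_iff_mul_eq_one, ← sq, ← orderOf_dvd_iff_pow_eq_one, h.w_four] at h5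
    exact absurd h5 (by norm_num)
  have hyy := h.yy
  have y1 : y⁻¹ = y := inv_eq_of_mul_eq_one_right hyy
  have hyN : y ∈ normalizer (Q : Set G) := by
    have hM := h'.relIndex_max h'.y_sq_mem
    rw [show x * x = x ^ 2 ^ 1 by rw [pow_one, sq]] at hM
    exact mem_normalizer_iff.2 fun a => ⟨fun ha => (Inv.conj_mem_iff_of_relIndex_two hM h.y_mem (hQS ha)).2 ha,
      fun ha => (Inv.conj_mem_iff_of_relIndex_two hM h.y_mem (by
        simpa [mul_assoc] using mul_mem (mul_mem (inv_mem h.y_mem) (hQS ha)) h.y_mem)).1 ha⟩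
  obtain ⟨w, w1, w2, w3, w4⟩ := q8_exists_w e hyN hg hyy hi hj h.inverts_w (h4 _ h.xy_mem h'.ny) (fun h5 => by
    have h6 : x ^ 2 ^ 1 * y = y * x ^ 2 ^ 1 := by
      calc _ = x * y * (y * (x * y) * y⁻¹) * (y * y)⁻¹ * y := by
            rw [y1, hyy]; simp [mul_assoc, hyy, sq, ← mul_assoc y y]
        _ = _ := by rw [h5, y1, hyy]; simp [mul_assoc, hyy, sq, ← mul_assoc y y]
    exact h4 _ h.y_mem h.ny h6) (h4 _ (hQS h3) h2).symm
  have hz : x ^ 2 ^ 1 * x ^ 2 ^ 1 = x ^ 4 := by rw [← pow_add]; rfl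
  have hw : w ^ 48 = 1 := by
    have : w ∈ centralizer ({x ^ 4} : Set G) := mem_cent_iff.2 (by rw [← hz, ← mul_inv_eq_iff_eq_mul, w2])
    exact orderOf_dvd_iff_pow_eq_one.1 ((Subgroup.orderOf_dvd_natCard _ this).trans hC)
  have w5 : ∀ a, w ^ 3 * a = a * w ^ 3 → w ^ 16 * a * (w ^ 16)⁻¹ = w * a * w⁻¹ := fun a ha => by
    rw [show w ^ 16 = w * (w ^ 3) ^ 5 by group, mul_assoc w, ((show Commute _ _ from ha).pow_left 5).eq]
    group
  have hs := sat_lt (i := x ^ 2 ^ 1) (u := y) (x := w ^ 16) (by rw [hz]; exact h.zz) hyy (by rw [← pow_mul, hw])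
    (by rw [← conj_pow, w1, inv_pow]) h.inverts_w (by
      rw [mul_inv_eq_iff_eq_mul]
      exact ((show Commute _ _ from mul_inv_eq_iff_eq_mul.1 w2).pow_left 16).eq) (by
      rw [w5 _ w4, w5 _ (by
        calc _ = w * (w ^ 3 * x ^ 2 ^ 1) * w⁻¹ := by group
          _ = _ := by rw [w4]; group), w3])
  obtain ⟨φ, hφ, h5, h6⟩ := exists_inj hs (by
    change x ^ 2 ^ 1 * x ^ 2 ^ 1 ≠ 1
    rw [hz]; exact Inv.ne_one_of_two h.z_two)
  have h7 : φ.range ≤ centralizer ({x ^ 4} : Set G) := by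
    rintro _ ⟨m, rfl⟩
    rw [mem_cent_iff, ← hz, show x ^ 2 ^ 1 * x ^ 2 ^ 1 = φ (s0 0) from (h5 0 (by norm_num)).symm, ← map_mul,
      ← map_mul]
    obtain ⟨v, hv, rfl⟩ := exists_word m
    have := (ev_s0_eq_iff (v ++ [0]) (0 :: v)).2
      ((by decide +kernel : ∀ v ∈ E, cd (v ++ [0]) = cd (0 :: v)) v hv)
    rw [ev_append, ev_cons, ev_cons, ev_nil, mul_one] at this
    rw [this]
  have h8 := eq_of_le_of_card_ge h7 (by
    rw [← Nat.card_congr (MonoidHom.ofInjective hφ).toEquiv, card_M]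
    exact Nat.le_of_dvd (by norm_num) hC)
  exact ⟨(MulEquiv.subgroupCongr h8.symm).trans (MonoidHom.ofInjective hφ).symm⟩

end Cfsg.Agent.Gl23
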