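import Mathlib
import Cfsg.Agent.Gl23.Ord3
import Cfsg.Agent.Gl23.Qd
import Cfsg.Agent.S0516
import Cfsg.Agent.S0483
import Cfsg.Agent.S1248

/-!
A simple group of order `7920` is `M₁₁`.
-/

set_option autoImplicit false

namespace Cfsg.Agent.Gl23

open Cfsg.Agent.Core Subgroup

variable {G : Type*} [Group G] [Finite G] [IsSimpleGroup G]

omit [IsSimpleGroup G] in
theorem card_sylow_two (hG : Nat.card G = 7920) (S : Sylow 2 G) : Nat.card S = 16 := by
  have := Fact.mk Nat.prime_two
  rw [S.card_eq_multiplicity, hG, show (7920 : ℕ) = 2 ^ 4 * 495 by norm_num,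
    Nat.factorization_mul (by norm_num) (by norm_num), Nat.prime_two.factorization_pow]
  simp [Nat.factorization_eq_zero_of_not_dvd]

theorem not_dihedral (hG : Nat.card G = 7920) (S : Sylow 2 G) {n : ℕ} (hn : 2 ≤ n)
    (e : Nonempty ((S : Subgroup G) ≃* DihedralGroup n)) : False := by
  have : Group.IsPerfect G := ⟨commutator_top (by rw [hG]; norm_num)⟩
  have hO : oddCore G = ⊥ := (inferInstance : (oddCore G).Normal).eq_bot_or_eq_top.resolve_right fun h => by
    have := Inv.odd_card_oddCore (G := G)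
    rw [h, card_top, hG] at this
    exact absurd this (by decide)
  have h1 : Nat.card (G ⧸ oddCore G) = 7920 := by rw [← index_eq_card, hO, index_bot, hG]
  rcases S0483.result S n hn e with ⟨F, _, _, h2, h3, ⟨f⟩⟩ | ⟨⟨f⟩⟩
  · have h4 := Classical.SLBasic.card_PSL_two (F := F)
    rw [← Nat.card_congr f.toEquiv, h1, Nat.card_eq_fintype_card] at h4
    generalize Fintype.card F = q at h2 h3 h4
    have h5 : q < 30 := by
      by_contra h5
      have h6 : Nat.gcd 2 (q - 1) ≤ 2 := Nat.gcd_le_left _ (by norm_num)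
      have h7 : 30 ^ 2 - 1 ≤ q ^ 2 - 1 := Nat.sub_le_sub_right (Nat.pow_le_pow_left (by omega) 2) 1
      have h8 := Nat.mul_le_mul (not_lt.1 h5) h7
      omega
    interval_cases q <;> simp at h4
  · have := Nat.card_congr f.toEquiv
    rw [h1, nat_card_alternatingGroup] at this
    simp [Nat.factorial] at this

theorem exists_qd (hG : Nat.card G = 7920) (S : Sylow 2 G) : ∃ x y, Inv.QD (S : Subgroup G) x y 0 := by
  have hS := card_sylow_two hG S
  obtain ⟨χ, h1, h2, -⟩ := exists_ten hG
  have := Fact.mk Nat.prime_two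
  have := Fintype.ofFinite (GaloisField 2 4)
  have hF : Fintype.card (GaloisField 2 4) = 16 := by
    rw [← Nat.card_eq_fintype_card, GaloisField.card 2 4 (by norm_num)]; rfl
  obtain ⟨P⟩ : Nonempty (Sylow 2 (PSU 3 (GaloisField 2 4) 4)) := inferInstance
  rcases S0516.result (fun h => by
      have := (Group.is_simple_iff_prime_card (α := G)).1 inferInstance
      rw [hG] at this
      norm_num at this) (pRankLE_of_char (Char.irr_isChar χ) h1 h2) S hF P with
    ⟨n, hn, e⟩ | h | ⟨n, hn, h, -⟩ | ⟨⟨e⟩⟩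
  · exact (not_dihedral hG S hn e).elim
  · obtain ⟨x, y, m, h⟩ := Inv.exists_qd h
    obtain rfl : m = 0 := by have := h.card_eq (n := 3) hS; omega
    exact ⟨x, y, h⟩
  · have := Nat.pow_le_pow_right (show 0 < 2 by norm_num) (show 5 ≤ 2 * n + 1 by omega)
    omega
  · have := Nat.card_congr e.toEquiv
    rw [(S1248.result hF P).1, hS] at this
    omega

theorem equiv_M11 (hG : Nat.card G = 7920) : Nonempty (G ≃* Spor.M11) := by
  obtain ⟨S⟩ : Nonempty (Sylow 2 G) := inferInstance
  obtain ⟨x, y, h⟩ := exists_qd hG S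
  have hO := Inv.pResidual_eq_top_of_no_index_two (no_index_two (G := G) (by omega))
  obtain ⟨e⟩ := cent_equiv_of_qd h hO (card_cent_dvd hG h.z_two)
  refine (recognition hO h.z_two e).resolve_left fun ⟨f⟩ => ?_
  have := Nat.card_congr f.toEquiv
  rw [hG, card_L33] at this
  omega

end Cfsg.Agent.Gl23
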