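import Mathlib
import Cfsg.Agent.Gl23.O5616a
import Cfsg.Agent.Gl23.Ord4
import Cfsg.Agent.Inv.StrongTT
import Cfsg.Agent.SR3.A
import Cfsg.Agent.Golay.Mathieu

/-!
A simple group of order `5616` is `PSL₃(3)`.
-/

set_option autoImplicit false

namespace Cfsg.Agent.Gl23.O56

open Cfsg.Agent.Core Subgroup
open scoped commutatorElement

variable {G : Type*} [Group G] [Finite G]

theorem no_eight (hG : ∀ M : Subgroup G, M.index ≠ 2) {S A : Subgroup G} (hS : Odd S.index) (hp : IsPGroup 2 S)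
    (hAS : A ≤ S) (hi : A.relIndex S = 2) (hA : Nat.card A = 8) (hc : ∀ a ∈ A, ∀ b ∈ A, Commute a b)
    (he : ∀ a ∈ A, a ^ 2 = 1) (hne : ¬ ∀ s ∈ S, s ^ 2 = 1) : False := by
  classical
  have nA : S ≤ normalizer (A : Set G) := (normal_subgroupOf_iff_le_normalizer hAS).1 (normal_of_index_eq_two hi)
  have sq : ∀ s ∈ S, s ^ 2 ∈ A := fun s hs => PGrp.pow_mem_of_relIndex_eq nA hi hs
  obtain ⟨u, huS, huA, hu⟩ : ∃ u ∈ S, u ∉ A ∧ u ^ 2 = 1 := by
    by_contra! h
    obtain ⟨x, hx, hxA⟩ := SetLike.not_le_iff_exists.1 fun h' : S ≤ A => by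
      rw [relIndex_eq_one.2 h'] at hi; omega
    obtain ⟨g, hg, -⟩ := Inv.strong_transfer hG hS hAS hi (x := x) (n := 2)
      (by rw [show 2 ^ 2 = 2 * 2 by rfl, pow_mul, he _ (sq x hx)]) (fun g k hg => by_contra fun h' => h _ hg h' (by
        rw [← MulAut.conj_inv_apply, ← map_pow, pow_mul, ← pow_mul, mul_comm k, pow_mul, he _ (sq x hx), one_pow,
          map_one])) (R := ⊥) IsPGroup.of_bot (by simp)
    have := he _ hg
    rw [← MulAut.conj_inv_apply, ← map_pow, map_eq_one_iff _ (MulEquiv.injective _)] at this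
    exact h x hx hxA this
  have eS := PGrp.sup_zpowers_eq_of_relIndex_prime Nat.prime_two hi hAS huS huA
  have cA : ∀ a ∈ A, ⁅a, u⁆ ∈ A := fun a ha => by
    rw [commutatorElement_def, mul_assoc, mul_assoc, ← mul_assoc u]
    exact mul_mem ha (((mem_normalizer_iff.1 (nA huS)) _).1 (inv_mem ha))
  have inv2 : ∀ {a : G}, a ^ 2 = 1 → a⁻¹ = a := fun h => inv_eq_of_mul_eq_one_right (by rw [← pow_two, h])
  have cu : ∀ a ∈ A, Commute ⁅a, u⁆ u := fun a ha => by
    have h1 := inv2 (he _ (cA a ha))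
    have h2 : u * u = 1 := by rw [← pow_two, hu]
    rw [commute_iff_eq]
    nth_rewrite 2 [← h1]
    simp only [commutatorElement_def, inv2 hu, inv2 (he a ha), mul_inv_rev, ← mul_assoc, h2, one_mul]
    simp only [mul_assoc, h2, mul_one]
  have cen : ∀ v ∈ A, Commute v u → S ≤ centralizer ({v} : Set G) := fun v hv h => by
    rw [← eS]
    exact sup_le (fun a ha => mem_cent_iff.2 (hc a ha v hv)) (zpowers_le.2 (mem_cent_iff.2 h.symm))
  obtain ⟨a, ha, hau⟩ : ∃ a ∈ A, ¬ Commute a u := by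
    by_contra! h
    refine hne fun s hs => ?_
    obtain ⟨c, hc, k, rfl⟩ := (PGrp.mem_sup_zpowers (nA huS)).1 (eS.ge hs)
    rw [((h c hc).zpow_right k).mul_pow, he c hc, one_mul, ← zpow_natCast, ← zpow_mul, mul_comm, zpow_mul,
      zpow_natCast, hu, one_zpow]
  have hz1 : ⁅a, u⁆ ≠ 1 := fun h => hau (commutatorElement_eq_one_iff_commute.1 h)
  have hzA := cA a ha
  have hzu := cu a ha
  have nz : S ≤ normalizer ((zpowers ⁅a, u⁆ : Subgroup G) : Set G) :=
    (cen _ hzA hzu).trans (by rw [zpowers_eq_closure, ← centralizer_closure]; exact centralizer_le_normalizer _)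
  have hz : orderOf ⁅a, u⁆ = 2 := orderOf_eq_prime (he _ hzA) hz1
  have hY : ∀ v ∈ zpowers ⁅a, u⁆, Commute v u := by rintro _ ⟨k, rfl⟩; exact hzu.zpow_left k
  have YA : zpowers ⁅a, u⁆ ≤ A := zpowers_le.2 hzA
  have cY : Nat.card (zpowers ⁅a, u⁆) = 2 := by rw [Nat.card_zpowers, hz]
  have zY := mem_zpowers ⁅a, u⁆
  have mY : ∀ v ∈ zpowers ⁅a, u⁆, v = 1 ∨ v = ⁅a, u⁆ := fun v hv => by
    obtain ⟨k, hk, rfl⟩ := Finset.mem_image.1 (mem_zpowers_iff_mem_range_orderOf.1 hv)
    rw [hz, Finset.mem_range] at hk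
    interval_cases k <;> simp
  have gY : ∀ g : G, g⁻¹⁻¹ * ⁅a, u⁆ * g⁻¹ ∈ zpowers ⁅a, u⁆ → ∀ v ∈ zpowers ⁅a, u⁆, g * v * g⁻¹ ∈ zpowers ⁅a, u⁆ := by
    rintro g hg _ ⟨k, rfl⟩
    rw [← conj_zpow]; exact zpow_mem (by simpa using hg) k
  generalize zpowers ⁅a, u⁆ = Y at *
  have iB := PGrp.relIndex_sup_zpowers Nat.prime_two (nz (hAS ha)) (he a ha ▸ one_mem Y) fun h => hau (hY a h)
  have BA : Y ⊔ zpowers a ≤ A := sup_le YA (zpowers_le.2 ha)
  have YB : Y ≤ Y ⊔ zpowers a := le_sup_left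
  have aB : a ∈ Y ⊔ zpowers a := mem_sup_right (mem_zpowers a)
  have cB := SR3.comm_sup nz (YA.trans hAS) (hAS ha) huS
    (fun v hv => (commutatorElement_eq_one_iff_commute.2 (hY v hv)).symm ▸ one_mem Y) zY
  generalize Y ⊔ zpowers a = B at *
  have iA : B.relIndex A = 2 := by
    have h1 := card_mul_relIndex YB
    have h2 := card_mul_relIndex BA
    rw [cY, iB] at h1
    rw [← h1, hA] at h2
    omega
  have mB : ∀ v ∈ B, Commute v u → v ∈ Y := fun v hv h =>
    ((PGrp.eq_or_eq_of_relIndex_prime Nat.prime_two iB (le_inf YB fun y hy => mem_cent_iff.2 (hY y hy))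
      (inf_le_left : B ⊓ centralizer ({u} : Set G) ≤ B)).resolve_right fun e => hau (mem_cent_iff.1 (e.ge aB).2)).le
      ⟨hv, mem_cent_iff.2 h⟩
  obtain ⟨w, hw, hwB, hwu⟩ : ∃ w ∈ A, w ∉ B ∧ Commute w u := by
    obtain ⟨c, hcA, hcB⟩ := SetLike.not_le_iff_exists.1 fun h' : A ≤ B => by
      rw [relIndex_eq_one.2 h'] at iA; omega
    by_cases h : ⁅c, u⁆ ∈ B
    · rcases mY _ (mB _ h (cu c hcA)) with h' | h'
      · exact ⟨c, hcA, hcB, commutatorElement_eq_one_iff_commute.1 h'⟩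
      · refine ⟨a⁻¹ * c, mul_mem (inv_mem ha) hcA, fun h'' => hcB (by simpa using mul_mem aB h''),
          commutatorElement_eq_one_iff_commute.1 ?_⟩
        calc ⁅a⁻¹ * c, u⁆ = a⁻¹ * (⁅c, u⁆ * ⁅a, u⁆⁻¹) * a := by simp only [commutatorElement_def]; group
          _ = 1 := by rw [h', mul_inv_cancel, mul_one, inv_mul_cancel]
    · exact ⟨_, cA c hcA, h, cu c hcA⟩
  have eA := PGrp.sup_zpowers_eq_of_relIndex_prime Nat.prime_two iA BA hw hwB
  have cA' := SR3.comm_sup nz (BA.trans hAS) (hAS hw) huS cB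
    ((commutatorElement_eq_one_iff_commute.2 hwu).symm ▸ one_mem Y)
  rw [eA] at cA'
  have cS := SR3.comm_sup_ab nz hAS huS
    (fun a ha b hb => (commutatorElement_eq_one_iff_commute.2 (hc a ha b hb)).symm ▸ one_mem Y) cA'
  rw [eS] at cS
  have uB : u ∈ normalizer (B : Set G) := mem_normalizer_fintype fun b hb => by
    have := mul_mem (inv_mem (YB (cB b hb))) hb
    rwa [show ⁅b, u⁆⁻¹ * b = u * b * u⁻¹ by simp only [commutatorElement_def]; group] at this
  have iM := PGrp.relIndex_sup_zpowers Nat.prime_two uB (hu ▸ one_mem B) fun h => huA (BA h)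
  have MS : B ⊔ zpowers u ≤ S := sup_le (BA.trans hAS) (zpowers_le.2 huS)
  have BM : B ≤ B ⊔ zpowers u := le_sup_left
  have uM : u ∈ B ⊔ zpowers u := mem_sup_right (mem_zpowers u)
  generalize B ⊔ zpowers u = M at *
  have iS : M.relIndex S = 2 := by
    have h1 := relIndex_mul_relIndex B A S BA hAS
    rw [← relIndex_mul_relIndex B M S BM MS, iA, hi, iM] at h1
    omega
  obtain ⟨g, hg, hgS⟩ := Inv.strong_transfer hG hS MS iS (x := w) (n := 1) (he w hw)
    (fun g k _ => by rw [pow_mul, he w hw]; simp) hp fun r hr => (mem_cent_iff.1 (cen w hw hwu hr)).symm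
  have gN : g ∈ normalizer (S : Set G) := inv_mem_iff.1 (mem_normalizer_fintype fun s hs => by simpa using hgS s hs)
  have gS : ∀ s ∈ S, g * s * g⁻¹ ∈ S := fun s hs => (mem_normalizer_iff.1 gN s).1 hs
  have hv : ∀ s ∈ S, Commute (g⁻¹ * w * g) s := fun s hs => by
    have := mem_cent_iff.1 (cen w hw hwu (gS s hs))
    rw [commute_iff_eq]
    calc g⁻¹ * w * g * s = g⁻¹ * (w * (g * s * g⁻¹)) * g := by group
      _ = _ := by rw [← this]; group
  have vA : g⁻¹ * w * g ∈ A :=
    ((PGrp.eq_or_eq_of_relIndex_prime Nat.prime_two hi (le_inf hAS fun y hy => mem_cent_iff.2 (hc y hy a ha))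
      (inf_le_left : S ⊓ centralizer ({a} : Set G) ≤ S)).resolve_right
      fun e => hau (mem_cent_iff.1 (e.ge huS).2).symm).le ⟨MS hg, mem_cent_iff.2 (hv a (hAS ha))⟩
  have vB : g⁻¹ * w * g ∈ B :=
    ((PGrp.eq_or_eq_of_relIndex_prime Nat.prime_two iM (le_inf BA BM) inf_le_right).resolve_right
      fun e => huA (e.ge uM).1).le ⟨vA, hg⟩
  refine hwB (YB ?_)
  have := gY g (by
    have := cS _ (gS a (hAS ha)) _ (gS u huS)
    rwa [show ⁅g * a * g⁻¹, g * u * g⁻¹⁆ = g⁻¹⁻¹ * ⁅a, u⁆ * g⁻¹ by simp only [commutatorElement_def]; group] at this)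
    _ (mB _ vB (hv u huS))
  simpa [mul_assoc] using this

variable [IsSimpleGroup G]

omit [IsSimpleGroup G] in
theorem card_syl (hG : Nat.card G = 5616) (S : Sylow 2 G) : Nat.card S = 16 := by
  have := Fact.mk Nat.prime_two
  rw [S.card_eq_multiplicity, hG, show (5616 : ℕ) = 2 ^ 4 * 351 by norm_num,
    Nat.factorization_mul (by norm_num) (by norm_num), Nat.prime_two.factorization_pow]
  simp [Nat.factorization_eq_zero_of_not_dvd]

theorem rank_two (hG : Nat.card G = 5616) : PRankLE 2 2 G := fun A hc he => by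
  have := Fact.mk Nat.prime_two
  by_contra h
  have h1 := card_dvd_eight hG A he
  have h2 : Nat.card A = 8 := by
    have := Nat.le_of_dvd (by norm_num) h1
    generalize Nat.card A = n at *
    interval_cases n <;> omega
  obtain ⟨S, hS⟩ := (IsPGroup.of_card (p := 2) (n := 3) h2).exists_le_sylow
  have h3 := card_mul_relIndex hS
  rw [h2, card_syl hG] at h3
  refine no_eight (no_index_two (G := G) (by omega)) (Nat.odd_iff.mpr (Nat.two_dvd_ne_zero.mp S.not_dvd_index))
    S.isPGroup' hS (by omega) h2 (fun a ha b hb => congrArg Subtype.val (hc.is_comm.comm ⟨a, ha⟩ ⟨b, hb⟩)) he fun h => ?_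
  have := card_dvd_eight hG S h
  rw [card_syl hG] at this
  norm_num at this

theorem not_dih (hG : Nat.card G = 5616) (S : Sylow 2 G) {n : ℕ} (hn : 2 ≤ n)
    (e : Nonempty ((S : Subgroup G) ≃* DihedralGroup n)) : False := by
  have : Group.IsPerfect G := ⟨commutator_top (by rw [hG]; norm_num)⟩
  have hO : oddCore G = ⊥ := (inferInstance : (oddCore G).Normal).eq_bot_or_eq_top.resolve_right fun h => by
    have := Inv.odd_card_oddCore (G := G)
    rw [h, card_top, hG] at this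
    exact absurd this (by decide)
  have h1 : Nat.card (G ⧸ oddCore G) = 5616 := by rw [← index_eq_card, hO, index_bot, hG]
  rcases S0483.result S n hn e with ⟨F, _, _, h2, h3, ⟨f⟩⟩ | ⟨⟨f⟩⟩
  · have h4 := Classical.SLBasic.card_PSL_two (F := F)
    rw [← Nat.card_congr f.toEquiv, h1, Nat.card_eq_fintype_card] at h4
    generalize Fintype.card F = q at h2 h3 h4
    have h5 : q < 30 := by
      by_contra h5
      have h6 : Nat.gcd 2 (q - 1) ≤ 2 := Nat.gcd_le_left _ (by norm_num)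
      have h7 : 30 ^ 2 - 1 ≤ q ^ 2 - 1 := Nat.sub_le_sub_right (Nat.pow_le_pow_left (by omega) 2) 1
      have h8 := Nat.mul_le_mul (not_lt.1 h5) h7
      omega
    interval_cases q <;> simp at h4
  · have := Nat.card_congr f.toEquiv
    rw [h1, nat_card_alternatingGroup] at this
    simp [Nat.factorial] at this

theorem exists_qd (hG : Nat.card G = 5616) (S : Sylow 2 G) : ∃ x y, Inv.QD (S : Subgroup G) x y 0 := by
  have hS := card_syl hG S
  have := Fact.mk Nat.prime_two
  have := Fintype.ofFinite (GaloisField 2 4)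
  have hF : Fintype.card (GaloisField 2 4) = 16 := by
    rw [← Nat.card_eq_fintype_card, GaloisField.card 2 4 (by norm_num)]; rfl
  obtain ⟨P⟩ : Nonempty (Sylow 2 (PSU 3 (GaloisField 2 4) 4)) := inferInstance
  rcases S0516.result (fun h => by
      have := (Group.is_simple_iff_prime_card (α := G)).1 inferInstance
      rw [hG] at this
      norm_num at this) (rank_two hG) S hF P with
    ⟨n, hn, e⟩ | h | ⟨n, hn, h, -⟩ | ⟨⟨e⟩⟩
  · exact (not_dih hG S hn e).elim
  · obtain ⟨x, y, m, h⟩ := Inv.exists_qd h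
    obtain rfl : m = 0 := by have := h.card_eq (n := 3) hS; omega
    exact ⟨x, y, h⟩
  · have := Nat.pow_le_pow_right (show 0 < 2 by norm_num) (show 5 ≤ 2 * n + 1 by omega)
    omega
  · have := Nat.card_congr e.toEquiv
    rw [(S1248.result hF P).1, hS] at this
    omega

theorem _root_.Cfsg.Agent.Mix26.equiv_L33 (hG : Nat.card G = 5616) : Nonempty (G ≃* L33) := by
  obtain ⟨S⟩ : Nonempty (Sylow 2 G) := inferInstance
  obtain ⟨x, y, h⟩ := exists_qd hG S
  have hO := Inv.pResidual_eq_top_of_no_index_two (no_index_two (G := G) (by omega))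
  obtain ⟨e⟩ := cent_equiv_of_qd h hO (card_cent_dvd hG h.z_two)
  refine (recognition hO h.z_two e).resolve_right fun ⟨f⟩ => ?_
  have := Nat.card_congr f.toEquiv
  rw [hG, Golay.card_M11] at this
  omega

end Cfsg.Agent.Gl23.O56
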