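import Mathlib
import Cfsg.Agent.Gl23.Ord4
import Cfsg.Agent.Golay.Cls

/-!
The character degrees of `M₁₁`.
-/

set_option autoImplicit false

namespace Cfsg.Agent.Gl23

open Cfsg.Agent.Char Cfsg.Agent.Block Cfsg.Agent.Golay Subgroup
open scoped Pointwise

theorem card_subtype_eq_count {α : Type*} {L : List α} (hnd : L.Nodup) (h : ∀ a, a ∈ L) (f : α → ℕ) (n : ℕ) :
    Nat.card {a // f a = n} = (L.map f).count n := by
  classical
  rw [List.count_eq_countP, List.countP_map, List.countP_eq_length_filter,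
    ← List.toFinset_card_of_nodup (hnd.filter _), ← Fintype.card_coe, ← Nat.card_eq_fintype_card]
  exact Nat.card_congr (Equiv.subtypeEquivRight fun a => by simp [h a])

theorem card_conjClasses_congr {G H : Type*} [Group G] [Group H] [Finite G] [Finite H] (e : G ≃* H) :
    Nat.card (ConjClasses G) = Nat.card (ConjClasses H) :=
  le_antisymm (Nat.card_le_card_of_surjective _ (ConjClasses.map_surjective (f := e.symm.toMonoidHom) e.symm.surjective))
    (Nat.card_le_card_of_surjective _ (ConjClasses.map_surjective (f := e.toMonoidHom) e.surjective))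

/-- the complementary dodecad -/
def compl11 : SubMulAction Spor.M11 GolayPt where
  carrier := {p | p ∉ Spor.squareDodecad}
  smul_mem' g p hp h := hp (by
    have : (g : P24) • Spor.squareDodecad = Spor.squareDodecad := g.2.1.2
    rwa [← this, smul_def, Finset.smul_mem_smul_finset_iff] at h)

theorem card_compl11 : Nat.card compl11 = 12 := by
  rw [← show Spor.squareDodecadᶜ.card = 12 by
    rw [Finset.card_compl, squareDodecad_mem.2]; rfl, ← Fintype.card_coe, ← Nat.card_eq_fintype_card]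
  exact Nat.card_congr (Equiv.subtypeEquivRight fun a => Finset.mem_compl.symm)

theorem exists_eleven {G : Type*} [Group G] [Finite G] (e : G ≃* Spor.M11) : ∃ χ : IrrCharacter G, χ.1 1 = 11 := by
  let _ := MulAction.compHom compl11 e.toMonoidHom
  have h2 : MulAction.IsMultiplyPretransitive G compl11 2 := by
    rw [MulAction.is_two_pretransitive_iff]
    intro a b c d hab hcd
    obtain ⟨g, hg, e1, e2, e3⟩ := dod_pt_compl_trans (k := 2) (by norm_num) squareDodecad_mem squareDodecad_mem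
      zero_mem_squareDodecad zero_mem_squareDodecad (x := ![a, b]) (y := ![c, d])
      (by simpa using hab) (by simpa using hcd) (by simpa using ⟨a.2, b.2⟩) (by simpa using ⟨c.2, d.2⟩)
    refine ⟨e.symm ⟨g, ⟨hg, e1⟩, e2⟩, Subtype.ext ?_, Subtype.ext ?_⟩
    · simpa [MulAction.compHom_smul_def, smul_def] using e3 0
    · simpa [MulAction.compHom_smul_def, smul_def] using e3 1
  have : Nontrivial compl11 := Finite.one_lt_card_iff_nontrivial.1 (by rw [card_compl11]; norm_num)
  have : MulAction.IsPretransitive G compl11 := MulAction.isPretransitive_of_is_two_pretransitive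
  refine ⟨⟨_, (isIrr_perm_sub_one_iff compl11).2 h2⟩, ?_⟩
  simp only [MulAction.fixedBy_one_eq_univ, Nat.card_univ, card_compl11]
  norm_num

variable {G : Type*} [Group G] [Finite G] [IsSimpleGroup G]

theorem degrees (hG : Nat.card G = 7920) : ∃ L : List (IrrCharacter G), L.Nodup ∧ (∀ χ, χ ∈ L) ∧
    L.map (fun χ : IrrCharacter G => charDegree χ.1) = [44, 55, 11, 1, 10, 10, 10, 45, 16, 16] := by
  classical
  have := Fintype.ofFinite G
  obtain ⟨e⟩ := equiv_M11 hG
  obtain ⟨ψ, hψ⟩ := exists_eleven e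
  obtain ⟨a, b, c, d, θ, θ', s, hnd, -, h0, ha, hb, h⟩ := exists_chars hG
  have h1 : Fintype.card (IrrCharacter G) = 10 := by
    rw [← Nat.card_eq_fintype_card, card_irr_eq_card_conjClasses, card_conjClasses_congr e, card_conjClasses_M11]
  have hnd' : [ψ, oneIrr G, a, b, c, d, θ, θ'].Nodup := List.nodup_cons.2 ⟨by
    intro hm
    simp only [List.mem_cons, List.not_mem_nil, or_false] at hm
    rcases h with ⟨-, h2, h3, h4⟩ | ⟨-, h2, h3, h4⟩ <;>
      rcases hm with rfl | rfl | rfl | rfl | rfl | rfl | rfl <;> simp_all, hnd⟩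
  obtain ⟨u, v, huv, h2⟩ := Finset.card_eq_two.1
    (show [ψ, oneIrr G, a, b, c, d, θ, θ'].toFinsetᶜ.card = 2 by
      rw [Finset.card_compl, List.toFinset_card_of_nodup hnd', h1]; rfl)
  have h3 : ∀ χ, χ ∉ [ψ, oneIrr G, a, b, c, d, θ, θ'] ↔ χ = u ∨ χ = v := fun χ => by
    rw [← List.mem_toFinset, ← Finset.mem_compl, h2, Finset.mem_insert, Finset.mem_singleton]
  have key : ∀ u v, u ≠ v → (∀ χ, χ ∉ [ψ, oneIrr G, a, b, c, d, θ, θ'] ↔ χ = u ∨ χ = v) →
      (u :: v :: [ψ, oneIrr G, a, b, c, d, θ, θ']).Nodup ∧ ∀ χ, χ ∈ u :: v :: [ψ, oneIrr G, a, b, c, d, θ, θ'] :=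
    fun u v huv h3 => ⟨List.nodup_cons.2 ⟨fun h => (List.mem_cons.1 h).elim huv ((h3 u).2 (Or.inl rfl)),
      List.nodup_cons.2 ⟨(h3 v).2 (Or.inr rfl), hnd'⟩⟩, fun χ => by
        rw [List.mem_cons, List.mem_cons, ← or_assoc, ← h3]; exact em' _⟩
  have h4 : ∑ χ : IrrCharacter G, charDegree (χ : G → ℂ) ^ 2 = 7920 := by
    have h := sum_irr_one_sq (G := G)
    simp only [← irr_degree_cast, hG] at h
    exact_mod_cast h
  rw [← Finset.eq_univ_of_forall (s := (u :: v :: [ψ, oneIrr G, a, b, c, d, θ, θ']).toFinset)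
    (fun χ => List.mem_toFinset.2 ((key u v huv h3).2 χ)), List.sum_toFinset _ (key u v huv h3).1] at h4
  have e0 : charDegree (oneIrr G : G → ℂ) = 1 := charDegree_of_eq (by simp)
  have e1 := charDegree_of_eq (n := 11) hψ
  have e2 := charDegree_of_eq (n := 10) ha
  have e3 := charDegree_of_eq (n := 10) hb
  simp only [List.map_cons, List.map_nil, List.sum_cons, List.sum_nil] at h4
  have h5 : charDegree (u : G → ℂ) ≤ 89 := (Nat.pow_le_pow_iff_left two_ne_zero).1 (by omega)
  have h6 : charDegree (v : G → ℂ) ≤ 89 := (Nat.pow_le_pow_iff_left two_ne_zero).1 (by omega)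
  rcases h with ⟨-, p2, p3, p4⟩ | ⟨-, p2, p3, p4⟩
  · have e4 := charDegree_of_eq (n := 10) p2
    have e5 := charDegree_of_eq (n := 45) p3
    have e6 := charDegree_of_eq (n := 16) p4
    have e7 := charDegree_of_eq (n := 16) (h0.trans p4)
    rw [e0, e1, e2, e3, e4, e5, e6, e7] at h4
    rcases (by decide +kernel : ∀ m ≤ 89, ∀ n ≤ 89, m ^ 2 + n ^ 2 = 4961 → m = 44 ∧ n = 55 ∨ m = 55 ∧ n = 44)
      _ h5 _ h6 (by omega) with ⟨e8, e9⟩ | ⟨e8, e9⟩
    · exact ⟨_, (key u v huv h3).1, (key u v huv h3).2, by simp [-coe_oneIrr, *]⟩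
    · have := key v u huv.symm fun χ => (h3 χ).trans or_comm
      exact ⟨_, this.1, this.2, by simp [-coe_oneIrr, *]⟩
  · rw [e0, e1, e2, e3, charDegree_of_eq (n := 12) p2, charDegree_of_eq (n := 12) p3,
      charDegree_of_eq (n := 5) p4, charDegree_of_eq (n := 5) (h0.trans p4)] at h4
    exact absurd (by omega) ((by decide +kernel : ∀ m ≤ 89, ∀ n ≤ 89, m ^ 2 + n ^ 2 ≠ 7260) _ h5 _ h6)

end Cfsg.Agent.Gl23
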