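import Mathlib
import Cfsg.Agent.Gl23.Ord5
import Cfsg.Agent.Gl23.Sim
import Cfsg.Agent.S5619

/-!
Local data of `M₁₁` and recognition lemmas.
-/

set_option autoImplicit false

namespace Cfsg.Agent.Gl23

open Cfsg.Agent.Core Cfsg.Agent.Block Cfsg.Agent.Golay Subgroup
open scoped Pointwise

variable {G : Type*} [Group G]

theorem card_cent_congr {H : Type*} [Group H] (e : G ≃* H) (x : G) :
    Nat.card (centralizer ({x} : Set G)) = Nat.card (centralizer ({e x} : Set H)) :=
  Nat.card_congr (e.toEquiv.subtypeEquiv fun g => by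
    rw [mem_centralizer_singleton_iff, mem_centralizer_singleton_iff, ← e.injective.eq_iff, map_mul, map_mul]
    rfl)

theorem M9_le : M9 ≤ Spor.M11 := fun g hg =>
  ⟨St_d0_le (mem_St.2 ⟨hg.1, congrArg (fun z => z.1.1.1) (mem_St.1 hg).2⟩),
    show g • pt 0 = pt 0 from congrArg (fun z => z.1.1.2) (mem_St.1 hg).2⟩

variable [Finite G]

theorem SX_of_card {p : ℕ} (hp : p.Prime) {x : G} (hx : x ≠ 1) (h : Nat.card (centralizer ({x} : Set G)) = p) :
    SX p x := by
  have h1 : zpowers x ≤ centralizer {x} := zpowers_le.2 (mem_centralizer_singleton_iff.2 rfl)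
  have h2 : orderOf x = p := ((Nat.dvd_prime hp).1 (h ▸ Nat.card_zpowers x ▸ card_dvd_of_le h1)).resolve_left
    (orderOf_eq_one_iff.not.2 hx)
  exact ⟨hp, h2, (eq_of_le_of_card_ge h1 (by rw [h, Nat.card_zpowers, h2])).symm⟩

theorem card_cent_two [IsSimpleGroup G] (hG : Nat.card G = 7920) {x : G} (hx : orderOf x = 2) :
    Nat.card (centralizer ({x} : Set G)) = 48 := by
  obtain ⟨e⟩ := equiv_M11 hG
  obtain ⟨r, hr, h1, h2⟩ := card_cent_M11 (e x)
  rw [e.orderOf_eq, hx] at h1
  rw [(by decide : ∀ r ∈ cls11, 2 = r.2.1 → r.2.2 = 165) r hr h1, ← card_cent_congr] at h2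
  omega

theorem card_sylow_three [IsSimpleGroup G] (hG : Nat.card G = 7920) : Nat.card (Sylow 3 G) = 55 := by
  have := Fact.mk Nat.prime_three
  obtain ⟨e⟩ := equiv_M11 hG
  obtain ⟨Q⟩ : Nonempty (Sylow 3 M9) := inferInstance
  obtain ⟨h1, h2, -⟩ := (S5619.aux (MulEquiv.refl M9)).1 Q
  set φ := e.symm.toMonoidHom.comp (inclusion M9_le)
  have hφ : Function.Injective φ := e.symm.injective.comp (inclusion_injective _)
  have h3 : Nat.card ((Q : Subgroup M9).map φ) = 9 := by rw [card_map_of_injective hφ, h2]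
  have h4 : (⊤ : Subgroup M9).map φ ≤ normalizer (((Q : Subgroup M9).map φ : Subgroup G) : Set G) :=
    normalizer_eq_top (Q : Subgroup M9) ▸ le_normalizer_map φ
  have h5 := card_dvd_of_le h4
  rw [card_map_of_injective hφ, card_top, card_M9] at h5
  have h6 : Nat.card (Sylow 3 G) = (normalizer (((Q : Subgroup M9).map φ : Subgroup G) : Set G)).index :=
    (Sylow.ofCard ((Q : Subgroup M9).map φ) (p := 3) (by rw [h3, hG]; decide +kernel)).card_eq_index_normalizer
  have h7 := card_sylow_modEq_one 3 G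
  have h8 := (normalizer (((Q : Subgroup M9).map φ : Subgroup G) : Set G)).card_mul_index
  have key : ∀ p : ℕ, p.Prime → (∀ x : G, orderOf x = p → SX p x) → ¬ p ∣ 9 → 9 % p ≠ 1 →
      ¬ p ∣ Nat.card (normalizer (((Q : Subgroup M9).map φ : Subgroup G) : Set G)) := fun p hp h a b c => by
    obtain ⟨t, ht⟩ := exists_prime_orderOf_dvd_card' (hp := ⟨hp⟩) p c
    exact b (h3 ▸ card_mod_of_SX (h t (by rw [orderOf_coe, ht])) t.2 (h3 ▸ a))
  have h9 := key 5 Nat.prime_five (fun x hx => SX_of_card Nat.prime_five (fun h => by simp [h] at hx) (by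
    rw [← centralizer_closure, ← zpowers_eq_closure, (cent_five hG hx).1])) (by norm_num) (by norm_num)
  have h10 := key 11 (by norm_num) (fun x hx => SX_of_card (by norm_num) (fun h => by simp [h] at hx) (by
    rw [← centralizer_closure, ← zpowers_eq_closure, (cent_eleven hG hx).1])) (by norm_num) (by norm_num)
  rw [← h6, hG] at h8
  obtain ⟨k, hk⟩ := h5
  rw [hk] at h8 h9 h10
  have : k ≤ 110 := Nat.le_of_dvd (by norm_num) ⟨Nat.card (Sylow 3 G), by nlinarith⟩
  rw [Nat.ModEq] at h7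
  interval_cases k <;> omega

end Cfsg.Agent.Gl23
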