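import Mathlib
import Cfsg.Agent.Comp.Mat2
import Cfsg.Agent.Spc.PGL
import Cfsg.Agent.Spc.Iso
import Cfsg.Agent.Spc.U3
import Cfsg.Agent.S0278
import Cfsg.Agent.S0279

/-!
A module in characteristic 5 for `SU₃(4)` on which the elements of order 13 act without fixed points.
-/

set_option autoImplicit false
set_option maxRecDepth 100000
set_option synthInstance.maxSize 1024

namespace Cfsg.Agent.Gl23.U34

open Cfsg Cfsg.Agent.Comp Cfsg.Agent.Spec Cfsg.Agent.Spc Matrix Finset

/-- the field with sixteen elements -/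
abbrev K : Type := QuadraticAlgebra K4 w4 1

instance factK : Fact (∀ r : K4, r ^ 2 ≠ w4 + 1 * r) := ⟨by decide +kernel⟩
instance finK : Fintype K := Fintype.ofEquiv _ (QuadraticAlgebra.equivProd w4 1).symm

theorem cardK : Fintype.card K = 4 ^ 2 := by decide +kernel

def e (n : ℕ) : K := ⟨⟨(n % 2 : ℕ), (n / 2 % 2 : ℕ)⟩, ⟨(n / 4 % 2 : ℕ), (n / 8 % 2 : ℕ)⟩⟩
def ix (a : K) : ℕ := a.re.re.val + 2 * a.re.im.val + 4 * a.im.re.val + 8 * a.im.im.val
def chi (a : K) : ZMod 5 := [0, 0, 0, 0, 1, 4, 2, 3, 1, 3, 4, 2, 1, 2, 3, 4].getD (ix a) 0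
def nt (a : K) : K := e ([0, 1, 3, 2, 2, 2, 3, 3, 1, 2, 1, 2, 3, 1, 1, 3].getD (ix a) 0)
def vec (n : ℕ) : Fin 3 → K := ![e n, e (n / 16), e (n / 256)]
def P (j t : ℕ) : Fin 3 → K := vec (([[272, 3889, 2659, 1494, 877, 342, 677, 2570, 624, 1303, 161, 970, 3852],
  [2880, 2148, 3734, 2825, 4032, 2476, 1482, 3036, 221, 2941, 791, 1137, 519],
  [2576, 1873, 2085, 3410, 3573, 943, 26, 1313, 3378, 3571, 3647, 3235, 266],
  [4005, 1722, 507, 2527, 1869, 148, 3289, 1069, 2738, 1563, 561, 1747, 1629],
  [1857, 2084, 3730, 2009, 3149, 2292, 3743, 3241, 1066, 1250, 142, 2552, 2335]].getD j []).getD (t % 13) 0)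
def wit (a b c : K) : ℕ := (0xf3c00000000000000561180000000022c00000000000b30002b274c000a200008c00000084000000000000000000038e000c34000000000000028c00000000271000000000000000000000000000000000000568c080000000000390000d34000000000000025e00000000083000000000000000000000000000000000000bcd840000008c0000000000000030c5f0000000001e800000000000d880018874a000b480023e00000146000000000001a8000000000000011a000000b2c0000000092c0000058a0005e000000770000420006b87680000000000000000000001870005b4000000000000028a000000000d800000000000000000000000000000000000010ccb00034e00000000000000d680000082400000000924000001a20013100000051c001ef000f91d100000000000000000000002e0000d3c000000000000012c00000000208000000000000000000000000000000000000f4123000000f4400000000000003b63a8000000004200000000000071c00105090000228006440000029f00000000000000e8c00000000000000c45fc000000002be00000000000724001861620018c0004b0000003750000000000024c000000000000009c000000fdc00000000d380000076800077000000514000970003143300000000000000176000000000000012a000000b340000000066c000000f20011f800000cd000104000a2d950000000000000033200000000000001de000000c84000000002a8000003ee00113800000e3c0010600030d8780000000000000000928000000000000030e79a000000007d8000000000001a40021d7b0001ea8000ec0000008200000000000000000000eb00046400000000000001c80000000020a00000000000000000000000000000000000010515800000001c18007d600000000000000398000000011400000000000000000000000000000000000076e00000000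 >>> (11 * (ix a + 2 * ix b + 32 * ix c))) % 2048
def m0 : Matrix (Fin 3) (Fin 3) K := !![0, 1, 0; e 12, 0, e 3; e 3, 0, e 15]

abbrev h (u v : Fin 3 → K) : K := hermForm 3 K 4 u v

theorem chi_mul : ∀ a b : K, a ≠ 0 → b ≠ 0 → chi (a * b) = chi a + chi b := by decide +kernel
theorem chi_four : ∀ a : K, chi (a ^ 4) = -chi a := by decide +kernel
theorem nt_eq : ∀ a : K, a * a ^ 4 = nt a := by decide +kernel
theorem chi_zero : chi 0 = 0 := by decide +kernel
theorem m0_P : ∀ j < 5, ∀ t < 13, m0 *ᵥ P j t = P j (t + 1) := by decide +kernel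
theorem P_ne : ∀ j < 5, P j 0 ≠ 0 ∧ h (P j 0) (P j 0) = 0 := by decide +kernel
theorem P_gen : ∀ j < 5, ∀ i < 5, ∀ t < 13, h (P j t) (P i 0) ≠ 0 ∨ P j t = P i 0 := by decide +kernel
theorem P_sum : ∀ j < 5, ∀ i < 5, ∑ t ∈ range 13, chi (h (P j t) (P i 0)) = 0 := by decide +kernel
theorem iso_wit : ∀ a : K, a = 0 ∨ a = 1 → ∀ b c : K, nt a + nt b + nt c = 0 → ![a, b, c] = 0 ∨
    (e (wit a b c / 65) ≠ 0 ∧ ![a, b, c] = e (wit a b c / 65) • P (wit a b c % 65 % 5) (wit a b c % 65 / 5)) := by
  decide +kernel
theorem m0_det : m0.det = 1 := by decide +kernel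
theorem m0_u : ∀ i j, ∑ l, m0 l i * m0 l j ^ 4 = if i = j then 1 else 0 := by decide +kernel
theorem tau_one : chi (h (P 0 0) (P 2 0)) - chi (h (P 1 0) (P 2 0)) - chi (h (P 0 0) (P 3 0)) +
    chi (h (P 1 0) (P 3 0)) ≠ 0 := by decide +kernel
theorem m0_pow : m0 ^ 13 = 1 ∧ m0 ≠ 1 := by decide +kernel

end Cfsg.Agent.Gl23.U34
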