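import Mathlib
import Cfsg.Agent.Gl23.U34

/-!
Groups of unbounded order with the prime graph of `PSU₃(4)`.
-/

set_option autoImplicit false

namespace Cfsg.Agent.Gl23.U34

open Cfsg Cfsg.Agent.Comp Cfsg.Agent.Spec Cfsg.Agent.Spc Matrix Finset

instance charK : CharP K 2 := charP_of_card_eq_prime_pow (R := K) (p := 2) (f := 4) (by rw [cardK]; norm_num)

abbrev G : Type := SU 3 K 4

def y0 : SpecialLinearGroup (Fin 3) K := ⟨m0, m0_det⟩

theorem y0_mem : y0 ∈ SU 3 K 4 := mem_SU 2 (k := 2) (by norm_num) y0 (by decide +kernel)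

def x0 : G := ⟨y0, y0_mem⟩

def act (g : G) (v : Fin 3 → K) : Fin 3 → K := g.1.1 *ᵥ v

theorem act_mul (g k : G) (v : Fin 3 → K) : act (g * k) v = act g (act k v) := by
  simp [act, Matrix.mulVec_mulVec]

theorem act_one (v : Fin 3 → K) : act 1 v = v := by simp [act]

theorem act_smul (g : G) (c : K) (v : Fin 3 → K) : act g (c • v) = c • act g v := Matrix.mulVec_smul _ _ _

theorem act_inj (g : G) {u v : Fin 3 → K} (H : act g u = act g v) : u = v := by
  rw [← act_one u, ← act_one v, ← inv_mul_cancel g, act_mul, act_mul, H]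

theorem h_act (g : G) (u v : Fin 3 → K) : h (act g u) (act g v) = h u v := g.2 u v

theorem h_smul (a b : K) (u v : Fin 3 → K) : h (a • u) (b • v) = a * b ^ 4 * h u v := by
  simp only [h, hermForm, Finset.mul_sum, Pi.smul_apply, smul_eq_mul]
  exact Finset.sum_congr rfl fun _ _ => by ring

theorem x0_pow : x0 ^ 13 = 1 := Subtype.ext (Subtype.ext m0_pow.1)

theorem ord_x0 : orderOf x0 = 13 :=
  haveI : Fact (Nat.Prime 13) := ⟨by norm_num⟩
  orderOf_eq_prime x0_pow fun H => m0_pow.2 (congrArg (fun g : G => g.1.1) H)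

theorem x0_P {j : ℕ} (hj : j < 5) (t : ℕ) : act (x0 ^ t) (P j 0) = P j t := by
  induction t with
  | zero => rw [pow_zero, act_one]
  | succ t ih =>
    have := m0_P j hj (t % 13) (Nat.mod_lt _ (by norm_num))
    rw [pow_succ', act_mul, ih]
    simp only [P, Nat.mod_mod, Nat.mod_add_mod] at this
    exact this

/-- nonzero isotropic vectors -/
def Iso (v : Fin 3 → K) : Prop := v ≠ 0 ∧ h v v = 0

theorem Iso.act {v : Fin 3 → K} (hv : Iso v) (g : G) : Iso (act g v) :=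
  ⟨fun H => hv.1 (act_inj g (H.trans (Matrix.mulVec_zero _).symm)), (h_act g v v).trans hv.2⟩

theorem iso_rep0 {v : Fin 3 → K} (hv : Iso v) (h0 : v 0 = 0 ∨ v 0 = 1) :
    ∃ l : K, l ≠ 0 ∧ ∃ j < 5, ∃ t, v = l • P j t := by
  have e1 : v = ![v 0, v 1, v 2] := funext fun i => by fin_cases i <;> rfl
  have := hv.2
  simp only [h, hermForm, Fin.sum_univ_three, nt_eq] at this
  rcases iso_wit _ h0 _ _ this with H | ⟨H1, H2⟩
  · exact absurd (e1.trans H) hv.1
  · exact ⟨_, H1, _, Nat.mod_lt _ (by norm_num), _, e1.trans H2⟩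

theorem iso_rep {v : Fin 3 → K} (hv : Iso v) : ∃ l : K, l ≠ 0 ∧ ∃ j < 5, ∃ t, v = l • P j t := by
  by_cases h0 : v 0 = 0
  · exact iso_rep0 hv (Or.inl h0)
  obtain ⟨l, hl, j, hj, t, H⟩ := iso_rep0 (v := (v 0)⁻¹ • v)
    ⟨smul_ne_zero (inv_ne_zero h0) hv.1, by rw [h_smul, hv.2, mul_zero]⟩ (Or.inr (by simp [h0]))
  exact ⟨v 0 * l, mul_ne_zero h0 hl, j, hj, t, by rw [mul_smul, ← H, smul_inv_smul₀ h0]⟩

/-- the invariant kernel -/
def Phi (a w : Fin 3 → K) : ZMod 5 := (∑ l : K, if a = l • w then chi l else 0) + chi (h a w)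

theorem Phi_act (g : G) (a w : Fin 3 → K) : Phi (act g a) (act g w) = Phi a w := by
  simp only [Phi, h_act, ← act_smul]
  exact congrArg (· + chi (h a w))
    (Finset.sum_congr rfl fun l _ => if_congr ⟨act_inj g, fun H => by rw [H]⟩ rfl rfl)

theorem Phi_smul {a w : Fin 3 → K} (hw : Iso w) (H : h a w ≠ 0 ∨ a = w) {l m : K} (hl : l ≠ 0) (hm : m ≠ 0) :
    Phi (l • a) (m • w) = chi l - chi m + chi (h a w) := by
  rcases H with H | rfl
  · rw [Phi, Finset.sum_eq_zero fun n _ => if_neg fun e => ?_, h_smul,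
      chi_mul _ _ (mul_ne_zero hl (pow_ne_zero _ hm)) H, chi_mul _ _ hl (pow_ne_zero _ hm), chi_four]
    · ring
    have := h_smul l 1 a w
    rw [e, smul_smul, h_smul, hw.2] at this
    simp [hl, H] at this
  · rw [Phi, h_smul, hw.2, mul_zero, Finset.sum_eq_single (l / m) (fun n _ hn => if_neg fun e => hn ?_) (by simp),
      if_pos (by rw [smul_smul, div_mul_cancel₀ _ hm])]
    · have := chi_mul (l / m) m (div_ne_zero hl hm) hm
      rw [div_mul_cancel₀ _ hm] at this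
      rw [this]; ring
    · rw [smul_smul] at e
      rw [smul_left_injective K hw.1 e, mul_div_cancel_right₀ _ hm]

def s (a w : Fin 3 → K) : ZMod 5 := ∑ t ∈ range 13, Phi (act (x0 ^ t) a) w

theorem s_left (a w : Fin 3 → K) : s (act x0 a) w = s a w := by
  have h1 := Finset.sum_range_succ (fun t => Phi (act (x0 ^ t) a) w) 13
  rw [Finset.sum_range_succ', x0_pow, pow_zero] at h1
  simpa only [s, ← act_mul, pow_succ] using add_right_cancel h1

theorem s_both (a w : Fin 3 → K) : s (act x0 a) (act x0 w) = s a w :=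
  Finset.sum_congr rfl fun t _ => by rw [← act_mul, ← pow_succ, pow_succ', act_mul, Phi_act]

theorem s_pow (a w : Fin 3 → K) (i k : ℕ) : s (act (x0 ^ i) a) (act (x0 ^ k) w) = s a w := by
  induction i with
  | zero =>
    rw [pow_zero, act_one]
    induction k with
    | zero => rw [pow_zero, act_one]
    | succ k ih => rw [pow_succ', act_mul, ← s_left, s_both, ih]
  | succ i ih => rw [pow_succ', act_mul, s_left, ih]

theorem s_P {l m : K} (hl : l ≠ 0) (hm : m ≠ 0) {j i : ℕ} (hj : j < 5) (hi : i < 5) (t k : ℕ) :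
    s (l • P j t) (m • P i k) = 13 * (chi l - chi m) := by
  rw [← x0_P hj, ← x0_P hi, ← act_smul, ← act_smul, s_pow, s, Finset.sum_congr rfl fun r hr => by
    rw [act_smul, x0_P hj, Phi_smul (P_ne i hi) (P_gen j hj i hi r (Finset.mem_range.1 hr)) hl hm],
    Finset.sum_add_distrib, P_sum j hj i hi]
  simp [mul_sub]

/-- the cuspidal function -/
def tau (g : G) : ZMod 5 := Phi (act g (P 0 0)) (P 2 0) - Phi (act g (P 1 0)) (P 2 0) -
  Phi (act g (P 0 0)) (P 3 0) + Phi (act g (P 1 0)) (P 3 0)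

theorem tau_sum (y x : G) : ∑ i ∈ range 13, tau ((y * x0 * y⁻¹) ^ i * x) = 0 := by
  have key : ∀ a w, ∑ i ∈ range 13, Phi (act ((y * x0 * y⁻¹) ^ i * x) a) w = s (act (y⁻¹ * x) a) (act y⁻¹ w) :=
    fun a w => Finset.sum_congr rfl fun i _ => by
      rw [← Phi_act y⁻¹, ← act_mul, ← act_mul, conj_pow]; simp only [mul_assoc, inv_mul_cancel_left]
  simp only [tau, Finset.sum_add_distrib, Finset.sum_sub_distrib, key]
  obtain ⟨l0, h0, j0, k0, t0, e0⟩ := iso_rep (Iso.act (P_ne 0 (by norm_num)) (y⁻¹ * x))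
  obtain ⟨l1, h1, j1, k1, t1, e1⟩ := iso_rep (Iso.act (P_ne 1 (by norm_num)) (y⁻¹ * x))
  obtain ⟨l2, h2, j2, k2, t2, e2⟩ := iso_rep (Iso.act (P_ne 2 (by norm_num)) y⁻¹)
  obtain ⟨l3, h3, j3, k3, t3, e3⟩ := iso_rep (Iso.act (P_ne 3 (by norm_num)) y⁻¹)
  rw [e0, e1, e2, e3, s_P h0 h2 k0 k2, s_P h1 h2 k1 k2, s_P h0 h3 k0 k3, s_P h1 h3 k1 k3]
  ring

theorem tau_ne : tau 1 ≠ 0 := by
  have key : ∀ j < 5, ∀ i < 5, Phi (P j 0) (P i 0) = chi (h (P j 0) (P i 0)) := fun j hj i hi => by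
    have := Phi_smul (P_ne i hi) (P_gen j hj i hi 0 (by norm_num)) one_ne_zero one_ne_zero
    rwa [one_smul, one_smul, sub_self, zero_add] at this
  simp only [tau, act_one]
  rw [key, key, key, key] <;> first | exact tau_one | norm_num

theorem cardG : Nat.card G = 62400 := by
  have := S0278.result cardK 3 (by norm_num)
  have h2 : (4 + 1) * Nat.card G = 5 * 62400 := this.trans (by decide +kernel)
  omega

theorem conj13 {k : G} (hk : orderOf k = 13) : ∃ j y, k ^ j = y * x0 * y⁻¹ := by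
  haveI : Fact (Nat.Prime 13) := ⟨by norm_num⟩
  have hf : ∀ g : G, orderOf g = 13 → Nat.card (Subgroup.zpowers g) = 13 ^ (Nat.card G).factorization 13 :=
    fun g hg => by
      rw [Nat.card_zpowers, hg, cardG, show 62400 = 13 ^ 1 * 4800 by norm_num, Nat.factorization_mul (by norm_num)
        (by norm_num), Nat.Prime.factorization_pow (by norm_num)]
      simp [Nat.factorization_eq_zero_of_not_dvd (show ¬ 13 ∣ 4800 by norm_num)]
  obtain ⟨y, hy⟩ := MulAction.exists_smul_eq G (Sylow.ofCard _ (hf _ ord_x0)) (Sylow.ofCard _ (hf _ hk))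
  have : y * x0 * y⁻¹ ∈ Subgroup.zpowers k := by
    rw [← Sylow.coe_ofCard _ (hf _ hk), ← hy]
    exact Subgroup.smul_mem_pointwise_smul _ (MulAut.conj y) _ (Subgroup.mem_zpowers x0)
  obtain ⟨j, hj⟩ := (mem_powers_iff_mem_zpowers.2 this)
  exact ⟨j, y, hj⟩

theorem specG {N : ℕ} : N ∈ spec G ↔ N ∈ spec (PSU 3 K 4) :=
  (spec_quot_iff _ (by rw [S0279.result cardK 3 le_rfl]; simp)).symm

theorem main {F : Type*} [Field F] [Fintype F] (hF : Fintype.card F = 16) (N : ℕ) :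
    ∃ (H : Type) (_ : Group H) (_ : Finite H), N < Nat.card H ∧ SamePG (PSU 3 F 4) H := by
  haveI : CharP F 2 := charP_of_card_eq_prime_pow (R := F) (p := 2) (f := 4) (by rw [hF]; norm_num)
  haveI : Fact (Nat.Prime 5) := ⟨by norm_num⟩
  have hs : spec (PSU 3 F 4) = spec G := by
    ext n
    rw [specG, spec_U3 (by rw [Nat.card_eq_fintype_card, hF]; norm_num) 2,
      spec_U3 (by rw [Nat.card_eq_fintype_card, cardK]) 2]
  have hG : ∀ n, n ∈ spec G ↔ n ∣ 5 ∨ n ∣ 10 ∨ n ∣ 15 ∨ n ∣ 13 ∨ n ∣ 4 := fun n => by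
    rw [specG, spec_U3 (by rw [Nat.card_eq_fintype_card, cardK]) 2]; simp
  let S : Set G := {k | ∃ y, k = y * x0 * y⁻¹}
  let τ : Cusp G (ZMod 5) S := ⟨tau, by
    rintro _ ⟨y, rfl⟩ x
    rw [show orderOf (y * x0 * y⁻¹) = 13 from ((MulAut.conj y).orderOf_eq x0).trans ord_x0]
    exact tau_sum y x⟩
  have hτ : τ ≠ 0 := fun H => tau_ne (congrFun (congrArg Subtype.val H) 1)
  haveI : Nontrivial (Cusp G (ZMod 5) S) := ⟨_, _, hτ⟩
  have key : ∀ n ∈ spec (Aff G (Cusp G (ZMod 5) S)), n ∈ spec G ∨ ∃ m ∈ spec G, m ≠ 13 ∧ n = m * 5 := by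
    intro n hn
    obtain ⟨k, v, rfl⟩ := Aff.mem_spec.1 hn
    by_cases h0 : Aff.nm k (orderOf k) v = 0
    · exact Or.inl ⟨k, by rw [h0, addOrderOf_zero, mul_one]⟩
    refine Or.inr ⟨_, ⟨k, rfl⟩, fun hk => h0 ?_, by rw [addOrderOf_cusp h0]⟩
    obtain ⟨j, y, hj⟩ := conj13 hk
    refine Aff.nm_eq_zero_of_fpf j (fun w hw => ?_) v
    have h1 := nm_cusp (S := S) (k := k ^ j) (fun x => ⟨x * y, by rw [hj]; group⟩) w
    rw [Aff.nm_of_fixed hw, ← addOrderOf_dvd_iff_nsmul_eq_zero, hj,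
      show orderOf (y * x0 * y⁻¹) = 13 from ((MulAut.conj y).orderOf_eq x0).trans ord_x0] at h1
    by_contra h2
    rw [addOrderOf_cusp h2] at h1
    omega
  refine pg_unb (Aff.unb (K := G) (V := Cusp G (ZMod 5) S)) (fun p hp => ?_) (fun p q hp hq hpq => ?_) N <;>
    rw [hs] <;> refine ⟨fun H => spec_le_of_inj _ Aff.inr_injective H, fun H => (key _ H).elim id ?_⟩ <;>
    rintro ⟨m, hm, h13, e1⟩
  · rw [(Nat.prime_dvd_prime_iff_eq (by norm_num) hp).1 (Dvd.intro_left m e1.symm) |>.symm, hG]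
    simp
  · have : m.Prime ∧ m ≠ 5 := by
      rcases (Nat.Prime.dvd_mul (by norm_num)).1 (Dvd.intro_left m e1.symm) with H | H
      · obtain rfl := (Nat.prime_dvd_prime_iff_eq (by norm_num) hp).1 H
        obtain rfl : q = m := by omega
        exact ⟨hq, hpq.symm⟩
      · obtain rfl := (Nat.prime_dvd_prime_iff_eq (by norm_num) hq).1 H
        obtain rfl : p = m := by omega
        exact ⟨hp, hpq⟩
    rw [e1, hG]
    rw [hG] at hm
    have h2 : m ≤ 15 := by rcases hm with H | H | H | H | H <;> have := Nat.le_of_dvd (by norm_num) H <;> omega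
    obtain ⟨h3, h4⟩ := this
    interval_cases m <;> simp_all (config := {decide := true})

end Cfsg.Agent.Gl23.U34
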